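import Mathlib
import Cfsg.Prelude.Def_GeometricClasses

/-!
# Groups with rank-one elements are not in the classes C2, C3, C4, C6

General lemmas on subgroups `G` of `GL(ι, F)` containing (or generated by) elements `g` with
`g = 1 + u wᵀ` (`IsRankOneElt`), and on perfect absolutely irreducible subgroups:

* `not_le_decompositionStabilizer` : `G` perfect, irreducible, generated by rank-one elements.
* `not_le_subalgebraNormalizer` : `G` perfect, absolutely irreducible.
* `not_le_tensorProductSubgroup` : `G` contains a rank-one element.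
* `not_le_subgroupNormalizer` : `G` perfect, simple modulo scalars, absolutely irreducible.
-/

set_option autoImplicit false
set_option linter.unusedSectionVars false
set_option linter.style.haveILetI false
set_option linter.unusedSimpArgs false

namespace Cfsg.Agent.H918

open Cfsg
open scoped Matrix MatrixGroups Kronecker

variable {ι : Type} [Fintype ι] [DecidableEq ι] {F : Type*} [Field F]

/-- `g = 1 + u wᵀ` with `u, w ≠ 0`: the matrix `g - 1` has rank one. -/
def IsRankOneElt (g : Matrix.GeneralLinearGroup ι F) : Prop :=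
  ∃ u w : ι → F, u ≠ 0 ∧ w ≠ 0 ∧ (g : Matrix ι ι F) = 1 + Matrix.vecMulVec u w

theorem IsRankOneElt.mulVec {g : Matrix.GeneralLinearGroup ι F} {u w : ι → F}
    (h : (g : Matrix ι ι F) = 1 + Matrix.vecMulVec u w) (x : ι → F) :
    (g : Matrix ι ι F) *ᵥ x = x + (w ⬝ᵥ x) • u := by
  rw [h, Matrix.add_mulVec, Matrix.one_mulVec, Matrix.vecMulVec_mulVec, op_smul_eq_smul]

/-! ### C2 -/

section C2

variable {t m : ℕ} {D : Fin t → Submodule F (ι → F)}

theorem decomp_ne_bot (hD : Geo.IsMDecomposition m D) (i : Fin t) : D i ≠ ⊥ := by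
  intro h
  have h1 := hD.finrank_eq i
  rw [h, finrank_bot] at h1
  have := hD.pos
  omega

theorem decomp_injective (hD : Geo.IsMDecomposition m D) : Function.Injective D := by
  intro i j hij
  by_contra hne
  have h1 := hD.indep.pairwiseDisjoint hne
  rw [Function.onFun, hij, disjoint_self] at h1
  exact decomp_ne_bot hD j h1

/-- The members of an independent family: a vector in two different pairwise sums. -/
theorem pair_eq_of_mem {i j k l : Fin t} (hD : iSupIndep D) {a b c d : ι → F}
    (ha : a ∈ D i) (hb : b ∈ D j) (hc : c ∈ D k) (hd : d ∈ D l) (hij : i ≠ j) (hkl : k ≠ l)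
    (ha0 : a ≠ 0) (hb0 : b ≠ 0) (h : a + b = c + d) :
    (k = i ∧ l = j) ∨ (k = j ∧ l = i) := by
  classical
  have hdf : ∀ (x : Fin t → ι → F), (∀ i, x i ∈ D i) → ∑ i, x i = 0 → ∀ i, x i = 0 := by
    intro x hx hs i
    exact (iSupIndep_iff_finsetSum_eq_zero_imp_eq_zero D).1 hD Finset.univ x
      (fun i _ => hx i) hs i (Finset.mem_univ i)
  -- coordinates
  have key : ∀ s : Fin t, (if s = i then a else 0) + (if s = j then b else 0) =
      (if s = k then c else 0) + (if s = l then d else (0 : ι → F)) := by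
    intro s
    have h0 := hdf (fun s => ((if s = i then a else 0) + (if s = j then b else 0)) -
      ((if s = k then c else 0) + (if s = l then d else (0 : ι → F)))) (by
        intro s
        refine Submodule.sub_mem _ (Submodule.add_mem _ ?_ ?_) (Submodule.add_mem _ ?_ ?_)
        all_goals
          split_ifs with hs
          · subst hs; assumption
          · exact Submodule.zero_mem _) (by
        rw [Finset.sum_sub_distrib, Finset.sum_add_distrib, Finset.sum_add_distrib]
        simp [h]) s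
    exact sub_eq_zero.1 h0
  have hki : i = k ∨ i = l := by
    by_contra hcon
    push Not at hcon
    have := key i
    rw [if_pos rfl, if_neg hij, if_neg hcon.1, if_neg hcon.2] at this
    simp at this
    exact ha0 this
  have hkj : j = k ∨ j = l := by
    by_contra hcon
    push Not at hcon
    have := key j
    rw [if_pos rfl, if_neg hij.symm, if_neg hcon.1, if_neg hcon.2] at this
    simp at this
    exact hb0 this
  rcases hki with rfl | rfl
  · rcases hkj with rfl | rfl
    · exact absurd rfl hij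
    · exact Or.inl ⟨rfl, rfl⟩
  · rcases hkj with rfl | rfl
    · exact Or.inr ⟨rfl, rfl⟩
    · exact absurd rfl hij

/-- A rank-one element permuting the members of a decomposition fixes them all or swaps two. -/
theorem rankOne_perm (hD : Geo.IsMDecomposition m D) {g : Matrix.GeneralLinearGroup ι F}
    (hg : IsRankOneElt g) {σ : Equiv.Perm (Fin t)}
    (hσ : ∀ i, (D i).map (Matrix.toLin' (g : Matrix ι ι F)) = D (σ i)) :
    σ = 1 ∨ σ.IsSwap := by
  obtain ⟨u, w, hu, hw, hguw⟩ := hg
  -- for a moved index, `u` is a sum of nonzero vectors in `D i` and `D (σ i)`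
  have key : ∀ i, σ i ≠ i → ∃ a ∈ D i, ∃ b ∈ D (σ i), a ≠ 0 ∧ b ≠ 0 ∧ u = a + b := by
    intro i hi
    obtain ⟨x, hx, hx0⟩ := Submodule.exists_mem_ne_zero_of_ne_bot (decomp_ne_bot hD i)
    have hgx : (g : Matrix ι ι F) *ᵥ x ∈ D (σ i) := by
      rw [← hσ i]
      exact ⟨x, hx, by rw [Matrix.toLin'_apply]⟩
    have hgx' := IsRankOneElt.mulVec hguw x
    have hgx0 : (g : Matrix ι ι F) *ᵥ x ≠ 0 := by
      intro h
      apply hx0
      have := congrArg (fun y => ((g⁻¹ : Matrix.GeneralLinearGroup ι F) : Matrix ι ι F) *ᵥ y) h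
      simpa [Matrix.mulVec_mulVec, ← Units.val_mul] using this
    have hc : w ⬝ᵥ x ≠ 0 := by
      intro h
      rw [h, zero_smul, add_zero] at hgx'
      rw [hgx'] at hgx
      have hdis := hD.indep.pairwiseDisjoint hi
      have := Submodule.disjoint_def.1 hdis x hgx hx
      exact hx0 this
    refine ⟨-((w ⬝ᵥ x)⁻¹ • x), Submodule.neg_mem _ (Submodule.smul_mem _ _ hx),
      (w ⬝ᵥ x)⁻¹ • ((g : Matrix ι ι F) *ᵥ x), Submodule.smul_mem _ _ hgx, ?_, ?_, ?_⟩
    · exact neg_ne_zero.2 (smul_ne_zero (inv_ne_zero hc) hx0)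
    · exact smul_ne_zero (inv_ne_zero hc) hgx0
    · rw [hgx', smul_add, smul_smul, inv_mul_cancel₀ hc, one_smul]
      abel
  by_cases h1 : σ = 1
  · exact Or.inl h1
  · right
    obtain ⟨i, hi⟩ : ∃ i, σ i ≠ i := by
      by_contra hcon
      push Not at hcon
      exact h1 (Equiv.ext hcon)
    obtain ⟨a, ha, b, hb, ha0, hb0, hab⟩ := key i hi
    refine ⟨i, σ i, hi.symm, ?_⟩
    -- every moved index is `i` or `σ i`
    have hmv : ∀ j, σ j ≠ j → (j = i ∧ σ j = σ i) ∨ (j = σ i ∧ σ j = i) := by
      intro j hj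
      obtain ⟨c, hc, d, hd, hc0, hd0, hcd⟩ := key j hj
      exact pair_eq_of_mem hD.indep ha hb hc hd hi.symm hj.symm ha0 hb0 (hab.symm.trans hcd)
    ext j
    congr 1
    by_cases hj : σ j = j
    · have hji : j ≠ i := by rintro rfl; exact hi hj
      have hjs : j ≠ σ i := by
        rintro rfl
        exact hi (σ.injective hj)
      rw [hj, Equiv.swap_apply_of_ne_of_ne hji hjs]
    · rcases hmv j hj with ⟨rfl, h⟩ | ⟨rfl, h⟩
      · rw [Equiv.swap_apply_left]
      · rw [h, Equiv.swap_apply_right]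

/-- The elements permuting the members of `D` evenly. -/
def evenStabilizer (D : Fin t → Submodule F (ι → F)) : Subgroup (Matrix.GeneralLinearGroup ι F) where
  carrier := {g | ∃ σ : Equiv.Perm (Fin t), Equiv.Perm.sign σ = 1 ∧
    ∀ i, (D i).map (Matrix.toLin' (g : Matrix ι ι F)) = D (σ i)}
  mul_mem' {a b} ha hb := by
    obtain ⟨σ, hs, hσ⟩ := ha
    obtain ⟨τ, ht, hτ⟩ := hb
    refine ⟨τ.trans σ, ?_, fun i => ?_⟩
    · rw [← Equiv.Perm.mul_def, map_mul, hs, ht, one_mul]
    · rw [Units.val_mul, Matrix.toLin'_mul, Submodule.map_comp, hτ, hσ, Equiv.trans_apply]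
  one_mem' := ⟨1, by simp, fun i => by simp⟩
  inv_mem' {a} ha := by
    obtain ⟨σ, hs, hσ⟩ := ha
    refine ⟨σ.symm, ?_, fun i => ?_⟩
    · rw [Equiv.Perm.sign_symm, hs]
    · have h := hσ (σ.symm i)
      rw [Equiv.apply_symm_apply] at h
      rw [← h, ← Submodule.map_comp, ← Matrix.toLin'_mul, ← Units.val_mul, inv_mul_cancel,
        Units.val_one, Matrix.toLin'_one, Submodule.map_id]

theorem commutator_le_evenStabilizer (D : Fin t → Submodule F (ι → F)) :
    ⁅Geo.decompositionStabilizer D, Geo.decompositionStabilizer D⁆ ≤ evenStabilizer D := by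
  rw [Subgroup.commutator_le]
  rintro g ⟨σ, hσ⟩ h ⟨τ, hτ⟩
  have hinv : ∀ {a : Matrix.GeneralLinearGroup ι F} {σ : Equiv.Perm (Fin t)},
      (∀ i, (D i).map (Matrix.toLin' (a : Matrix ι ι F)) = D (σ i)) →
      ∀ i, (D i).map (Matrix.toLin' ((a⁻¹ : Matrix.GeneralLinearGroup ι F) : Matrix ι ι F)) =
        D (σ⁻¹ i) := by
    intro a σ hσ i
    have h := hσ (σ⁻¹ i)
    rw [Equiv.Perm.coe_inv, Equiv.apply_symm_apply] at h
    rw [Equiv.Perm.coe_inv, ← h, ← Submodule.map_comp, ← Matrix.toLin'_mul, ← Units.val_mul,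
      inv_mul_cancel, Units.val_one, Matrix.toLin'_one, Submodule.map_id]
  refine ⟨σ * τ * σ⁻¹ * τ⁻¹, ?_, fun i => ?_⟩
  · rw [map_mul, map_mul, map_mul, map_inv, map_inv, mul_right_comm (Equiv.Perm.sign σ),
      mul_inv_cancel, one_mul, mul_inv_cancel]
  · rw [commutatorElement_def, Units.val_mul, Units.val_mul, Units.val_mul, Matrix.toLin'_mul,
      Matrix.toLin'_mul, Matrix.toLin'_mul, Submodule.map_comp, Submodule.map_comp,
      Submodule.map_comp, hinv hτ, hinv hσ, hτ, hσ]
    rfl

/-- A perfect irreducible group generated by rank-one elements is primitive. -/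
theorem not_le_decompositionStabilizer {G : Subgroup (Matrix.GeneralLinearGroup ι F)}
    (hperf : ⁅G, G⁆ = G)
    (hgen : G ≤ Subgroup.closure {g | g ∈ G ∧ IsRankOneElt g})
    (hirr : Geo.ActsIrreducibly (Geo.matrixSet G))
    (hD : Geo.IsMDecomposition m D) : ¬ G ≤ Geo.decompositionStabilizer D := by
  intro hle
  have hev : G ≤ evenStabilizer D := by
    calc G = ⁅G, G⁆ := hperf.symm
      _ ≤ ⁅Geo.decompositionStabilizer D, Geo.decompositionStabilizer D⁆ :=
        Subgroup.commutator_mono hle hle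
      _ ≤ evenStabilizer D := commutator_le_evenStabilizer D
  have ht : 0 < t := by have := hD.two_le; omega
  set i0 : Fin t := ⟨0, ht⟩ with hi0
  -- the stabiliser of `D i0` contains every rank-one element, so `G`
  have hst : ∀ g ∈ G, (D i0).map (Matrix.toLin' (g : Matrix ι ι F)) = D i0 := by
    let S : Subgroup (Matrix.GeneralLinearGroup ι F) :=
      { carrier := {g | (D i0).map (Matrix.toLin' (g : Matrix ι ι F)) = D i0}
        mul_mem' := by
          intro a b ha hb
          simp only [Set.mem_ofPred_eq] at ha hb ⊢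
          rw [Units.val_mul, Matrix.toLin'_mul, Submodule.map_comp, hb, ha]
        one_mem' := by simp
        inv_mem' := by
          intro a ha
          simp only [Set.mem_ofPred_eq] at ha ⊢
          conv_lhs => rw [← ha]
          rw [← Submodule.map_comp, ← Matrix.toLin'_mul, ← Units.val_mul, inv_mul_cancel,
            Units.val_one, Matrix.toLin'_one, Submodule.map_id] }
    have : G ≤ S := by
      refine hgen.trans ((Subgroup.closure_le S).2 ?_)
      rintro g ⟨hgG, hg⟩
      obtain ⟨σ, hs, hσ⟩ := hev hgG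
      rcases rankOne_perm hD hg hσ with h1 | h1
      · rw [h1] at hσ
        exact hσ i0
      · rw [h1.sign_eq] at hs
        exact absurd hs (by decide)
    intro g hg
    exact this hg
  rcases hirr (D i0) (by
    rintro _ ⟨g, hg, rfl⟩
    exact (hst g hg).le) with h | h
  · exact decomp_ne_bot hD i0 h
  · -- another member gives a contradiction
    have h2 := hD.two_le
    set i1 : Fin t := ⟨1, by omega⟩ with hi1
    have hne : i0 ≠ i1 := by simp [hi0, hi1]
    have hdis := hD.indep.pairwiseDisjoint hne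
    rw [Function.onFun, h, top_disjoint] at hdis
    exact decomp_ne_bot hD i1 hdis

end C2

/-! ### C1 -/

theorem mem_subspaceStabilizer {W : Submodule F (ι → F)} {g : Matrix.GeneralLinearGroup ι F} :
    g ∈ Geo.subspaceStabilizer W ↔ ∀ v, v ∈ W ↔ (g : Matrix ι ι F) *ᵥ v ∈ W := Iff.rfl

/-- An irreducible group is in no stabiliser of a proper non-zero subspace. -/
theorem not_le_subspaceStabilizer {G : Subgroup (Matrix.GeneralLinearGroup ι F)}
    (hirr : Geo.ActsIrreducibly (Geo.matrixSet G)) {W : Submodule F (ι → F)}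
    (hW : W ≠ ⊥) (hW' : W ≠ ⊤) : ¬ G ≤ Geo.subspaceStabilizer W := by
  intro hle
  rcases hirr W (by
    rintro _ ⟨g, hg, rfl⟩
    rintro _ ⟨x, hx, rfl⟩
    rw [Matrix.toLin'_apply]
    exact (hle hg x).1 hx) with h | h
  · exact hW h
  · exact hW' h

/-! ### Scalars and commutators -/

theorem commute_of_mem_scalars {z : Matrix.GeneralLinearGroup ι F} (hz : z ∈ Geo.scalars ι F)
    (g : Matrix.GeneralLinearGroup ι F) : z * g = g * z := by
  rw [Geo.mem_scalars_iff] at hz
  obtain ⟨c, hc⟩ := hz
  apply Units.ext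
  rw [Units.val_mul, Units.val_mul, hc, Matrix.smul_mul, Matrix.one_mul, Matrix.mul_smul,
    Matrix.mul_one]

/-- An element commuting with an absolutely irreducible group is scalar. -/
theorem mem_scalars_of_commute {G : Subgroup (Matrix.GeneralLinearGroup ι F)}
    (habs : Geo.ActsAbsolutelyIrreducibly (Geo.matrixSet G)) [Nonempty ι]
    {x : Matrix.GeneralLinearGroup ι F} (hx : ∀ g ∈ G, x * g = g * x) : x ∈ Geo.scalars ι F := by
  obtain ⟨c, hc⟩ := habs.2 (x : Matrix ι ι F) (by
    rintro _ ⟨g, hg, rfl⟩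
    have := congrArg Units.val (hx g hg)
    simpa using this)
  rw [Geo.mem_scalars_iff]
  have hc0 : c ≠ 0 := by
    rintro rfl
    rw [zero_smul] at hc
    exact x.ne_zero hc
  exact ⟨Units.mk0 c hc0, hc⟩

/-- If `x` normalises `G` and `[x, G]` consists of scalars, then `x` centralises `⁅G, G⁆`. -/
theorem commute_commutator_of_scalar {G : Subgroup (Matrix.GeneralLinearGroup ι F)}
    {x : Matrix.GeneralLinearGroup ι F}
    (hx : ∀ g ∈ G, x * g * x⁻¹ * g⁻¹ ∈ Geo.scalars ι F) : ∀ g ∈ ⁅G, G⁆, x * g = g * x := by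
  -- the centraliser of `x` contains all commutators
  have hle : ⁅G, G⁆ ≤ Subgroup.centralizer {x} := by
    rw [Subgroup.commutator_le]
    intro a ha b hb
    rw [Subgroup.mem_centralizer_singleton_iff, commutatorElement_def]
    have h1 := hx a ha
    have h2 := hx b hb
    set z := x * a * x⁻¹ * a⁻¹ with hz
    set w := x * b * x⁻¹ * b⁻¹ with hw
    have ea : x * a * x⁻¹ = z * a := by rw [hz]; group
    have eb : x * b * x⁻¹ = w * b := by rw [hw]; group
    have cz := commute_of_mem_scalars h1
    have cw := commute_of_mem_scalars h2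
    have e : x * (a * b * a⁻¹ * b⁻¹) * x⁻¹ = a * b * a⁻¹ * b⁻¹ := by
      calc x * (a * b * a⁻¹ * b⁻¹) * x⁻¹
          = (x * a * x⁻¹) * (x * b * x⁻¹) * (x * a * x⁻¹)⁻¹ * (x * b * x⁻¹)⁻¹ := by group
        _ = (z * a) * (w * b) * (z * a)⁻¹ * (w * b)⁻¹ := by rw [ea, eb]
        _ = a * b * a⁻¹ * b⁻¹ := by
            have e1 : (z * a) * (w * b) = (z * w) * (a * b) := by
              rw [mul_assoc, ← mul_assoc a, ← cw a]; group
            have e2 : (z * a)⁻¹ * (w * b)⁻¹ = (z * w)⁻¹ * (a⁻¹ * b⁻¹) := by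
              rw [← mul_inv_rev, ← mul_inv_rev, ← mul_inv_rev]
              congr 1
              calc w * b * (z * a) = w * (b * z) * a := by group
                _ = w * (z * b) * a := by rw [cz b]
                _ = (w * z) * (b * a) := by group
                _ = (z * w) * (b * a) := by rw [cz w]
                _ = z * ((w * b) * a) := by group
                _ = b * a * (z * w) := by
                    rw [cw b]
                    calc z * (b * w * a) = (z * b) * (w * a) := by group
                      _ = (b * z) * (a * w) := by rw [cz b, cw a]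
                      _ = b * (z * a) * w := by group
                      _ = b * (a * z) * w := by rw [cz a]
                      _ = b * a * (z * w) := by group
            calc (z * a) * (w * b) * (z * a)⁻¹ * (w * b)⁻¹
                = ((z * a) * (w * b)) * ((z * a)⁻¹ * (w * b)⁻¹) := by group
              _ = (z * w) * (a * b) * ((z * w)⁻¹ * (a⁻¹ * b⁻¹)) := by rw [e1, e2]
              _ = a * b * a⁻¹ * b⁻¹ := by
                  have hzw : z * w ∈ Geo.scalars ι F := mul_mem h1 h2
                  rw [commute_of_mem_scalars hzw]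
                  group
    calc a * b * a⁻¹ * b⁻¹ * x = (x * (a * b * a⁻¹ * b⁻¹) * x⁻¹) * x := by rw [e]
      _ = x * (a * b * a⁻¹ * b⁻¹) := by group
  intro g hg
  exact ((Subgroup.mem_centralizer_singleton_iff).1 (hle hg)).symm

/-! ### C6 -/

/-- A perfect, absolutely irreducible group, simple modulo scalars, normalises no non-scalar solvable
group that normalises it. -/
theorem not_le_subgroupNormalizer [Nonempty ι] {G R : Subgroup (Matrix.GeneralLinearGroup ι F)}
    (hperf : ⁅G, G⁆ = G)
    (hsimp : ∀ N : Subgroup (Matrix.GeneralLinearGroup ι F), N ≤ G →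
      (∀ g ∈ G, ∀ x ∈ N, g * x * g⁻¹ ∈ N) → N ≤ Geo.scalars ι F ∨ N = G)
    (habs : Geo.ActsAbsolutelyIrreducibly (Geo.matrixSet G))
    (hRG : ∀ r ∈ R, ∀ g ∈ G, r * g * r⁻¹ ∈ G) (hsolv : Group.IsSolvable R)
    (hRs : ¬ R ≤ Geo.scalars ι F) : ¬ G ≤ Geo.subgroupNormalizer R := by
  intro hle
  have hconj : ∀ g ∈ G, ∀ x ∈ R, g * x * g⁻¹ ∈ R := by
    intro g hg x hx
    have h := (Subgroup.mem_normalizer_iff.1 (hle hg) x).1 hx
    exact h
  rcases hsimp (R ⊓ G) inf_le_right (by
    intro g hg x hx
    exact ⟨hconj g hg x hx.1, G.mul_mem (G.mul_mem hg hx.2) (G.inv_mem hg)⟩) with h | h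
  · -- `[R, G]` is scalar
    apply hRs
    intro r hr
    apply mem_scalars_of_commute habs
    intro g hg
    have h1 : ∀ g ∈ G, r * g * r⁻¹ * g⁻¹ ∈ Geo.scalars ι F := by
      intro g hg
      apply h
      refine ⟨?_, G.mul_mem (hRG r hr g hg) (G.inv_mem hg)⟩
      have : r * g * r⁻¹ * g⁻¹ = r * (g * r⁻¹ * g⁻¹) := by group
      rw [this]
      exact R.mul_mem hr (hconj g hg _ (R.inv_mem hr))
    exact commute_commutator_of_scalar h1 g (by rw [hperf]; exact hg)
  · -- `G ≤ R` is solvable
    have hGR : G ≤ R := by rw [← h]; exact inf_le_left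
    have hGs : Group.IsSolvable G :=
      Group.isSolvable_of_isSolvable_injective (Subgroup.inclusion_injective hGR)
    have hG1 : G = ⊥ := by
      by_contra hne
      haveI : Nontrivial G := (Subgroup.nontrivial_iff_ne_bot G).2 hne
      have h2 := Group.IsSolvable.commutator_lt_top_of_nontrivial G
      have h3 : commutator G = ⊤ := by
        apply Subgroup.map_injective (Subgroup.subtype_injective G)
        rw [commutator_def, Subgroup.map_commutator, ← MonoidHom.range_eq_map, Subgroup.range_subtype,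
          hperf]
      exact h2.ne h3
    apply hRs
    intro r _
    apply mem_scalars_of_commute habs
    intro g hg
    rw [hG1, Subgroup.mem_bot] at hg
    rw [hg, mul_one, one_mul]

/-! ### C3 -/

/-- A perfect absolutely irreducible group normalises no proper extension field inside the matrix
algebra. -/
theorem not_le_subalgebraNormalizer [Finite F] {G : Subgroup (Matrix.GeneralLinearGroup ι F)}
    (hperf : ⁅G, G⁆ = G) (habs : Geo.ActsAbsolutelyIrreducibly (Geo.matrixSet G))
    {r : ℕ} (hr : 2 ≤ r) {K : Subalgebra F (Matrix ι ι F)} (hK : Geo.IsFieldSubalgebra r K) :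
    ¬ G ≤ Geo.subalgebraNormalizer K := by
  intro hle
  have hKn : Nontrivial K := by
    by_contra hcon
    rw [not_nontrivial_iff_subsingleton] at hcon
    have := hK.finrank_eq
    rw [Module.finrank_zero_of_subsingleton] at this
    omega
  letI : CommRing K := { (inferInstance : Ring K) with
    mul_comm := fun x y => Subtype.ext (hK.comm x.1 x.2 y.1 y.2) }
  haveI : IsDomain K := by
    haveI : NoZeroDivisors K := by
      refine ⟨fun {x y} hxy => ?_⟩
      by_contra hcon
      push Not at hcon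
      obtain ⟨z, hz, hxz⟩ := hK.inv x.1 x.2 (fun h => hcon.1 (Subtype.ext h))
      apply hcon.2
      have h1 : (⟨z, hz⟩ : K) * x = 1 := by
        rw [mul_comm]; exact Subtype.ext hxz
      calc y = ((⟨z, hz⟩ : K) * x) * y := by rw [h1, one_mul]
        _ = ⟨z, hz⟩ * (x * y) := by rw [mul_assoc]
        _ = 0 := by rw [hxy, mul_zero]
    exact NoZeroDivisors.to_isDomain K
  haveI : Finite K := inferInstance
  obtain ⟨ζ, hζ⟩ := IsCyclic.exists_generator (α := Kˣ)
  -- conjugation by `g ∈ G` as a power map on `ζ`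
  have hconj : ∀ g ∈ G, ∀ k ∈ K, (g : Matrix ι ι F) * k *
      ((g⁻¹ : Matrix.GeneralLinearGroup ι F) : Matrix ι ι F) ∈ K := fun g hg k hk =>
    (hle hg k).1 hk
  have hinvmul : ∀ g : Matrix.GeneralLinearGroup ι F,
      ((g⁻¹ : Matrix.GeneralLinearGroup ι F) : Matrix ι ι F) * (g : Matrix ι ι F) = 1 := by
    intro g
    rw [← Units.val_mul, inv_mul_cancel, Units.val_one]
  have hmulinv : ∀ g : Matrix.GeneralLinearGroup ι F,
      (g : Matrix ι ι F) * ((g⁻¹ : Matrix.GeneralLinearGroup ι F) : Matrix ι ι F) = 1 := by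
    intro g
    rw [← Units.val_mul, mul_inv_cancel, Units.val_one]
  -- conjugation by `g` as a ring endomorphism of `K`
  let cj : ∀ g ∈ G, K →* K := fun g hg =>
    { toFun := fun k => ⟨(g : Matrix ι ι F) * k.1 *
        ((g⁻¹ : Matrix.GeneralLinearGroup ι F) : Matrix ι ι F), hconj g hg k.1 k.2⟩
      map_one' := Subtype.ext (by simp [hmulinv])
      map_mul' := fun x y => Subtype.ext (by
        simp only [MulMemClass.mk_mul_mk, MulMemClass.coe_mul]
        calc (g : Matrix ι ι F) * (x.1 * y.1) * ((g⁻¹ : Matrix.GeneralLinearGroup ι F) : Matrix ι ι F)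
            = (g : Matrix ι ι F) * x.1 * 1 * y.1 *
              ((g⁻¹ : Matrix.GeneralLinearGroup ι F) : Matrix ι ι F) := by
                rw [mul_one]; simp only [mul_assoc]
          _ = (g : Matrix ι ι F) * x.1 * (((g⁻¹ : Matrix.GeneralLinearGroup ι F) : Matrix ι ι F) *
              (g : Matrix ι ι F)) * y.1 *
              ((g⁻¹ : Matrix.GeneralLinearGroup ι F) : Matrix ι ι F) := by rw [hinvmul]
          _ = _ := by simp only [mul_assoc]) }
  have hpow : ∀ (g : Matrix.GeneralLinearGroup ι F) (hg : g ∈ G), ∃ a : ℤ, ∀ k : Kˣ,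
      Units.map (cj g hg) k = k ^ a := by
    intro g hg
    obtain ⟨a, ha⟩ := Subgroup.mem_zpowers_iff.1 (hζ (Units.map (cj g hg) ζ))
    refine ⟨a, fun k => ?_⟩
    obtain ⟨b, rfl⟩ := Subgroup.mem_zpowers_iff.1 (hζ k)
    rw [map_zpow, ← ha, ← zpow_mul, ← zpow_mul, mul_comm]
  have hcomm : ∀ g (hg : g ∈ G) h (hh : h ∈ G) (k : Kˣ),
      Units.map (cj g hg) (Units.map (cj h hh) k) = Units.map (cj h hh) (Units.map (cj g hg) k) := by
    intro g hg h hh k
    obtain ⟨a, ha⟩ := hpow g hg
    obtain ⟨b, hb⟩ := hpow h hh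
    rw [ha, hb, hb, ha, ← zpow_mul, ← zpow_mul, mul_comm]
  -- in matrix form
  have hcomm' : ∀ g ∈ G, ∀ h ∈ G, ∀ k ∈ K,
      (g : Matrix ι ι F) * ((h : Matrix ι ι F) * k *
        ((h⁻¹ : Matrix.GeneralLinearGroup ι F) : Matrix ι ι F)) *
        ((g⁻¹ : Matrix.GeneralLinearGroup ι F) : Matrix ι ι F) =
      (h : Matrix ι ι F) * ((g : Matrix ι ι F) * k *
        ((g⁻¹ : Matrix.GeneralLinearGroup ι F) : Matrix ι ι F)) *
        ((h⁻¹ : Matrix.GeneralLinearGroup ι F) : Matrix ι ι F) := by
    intro g hg h hh k hk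
    by_cases hk0 : k = 0
    · subst hk0; simp
    · obtain ⟨z, hz, hkz⟩ := hK.inv k hk hk0
      have hu : (⟨k, hk⟩ : K) * ⟨z, hz⟩ = 1 := Subtype.ext hkz
      let κ : Kˣ := ⟨⟨k, hk⟩, ⟨z, hz⟩, hu, by rw [mul_comm]; exact hu⟩
      have := congrArg (fun x : Kˣ => ((x : K) : Matrix ι ι F)) (hcomm g hg h hh κ)
      exact this
  -- so commutators centralise `K`
  have hcent : ∀ k ∈ K, ∀ g ∈ G, (g : Matrix ι ι F) * k = k * (g : Matrix ι ι F) := by
    intro k hk
    let S : Subgroup (Matrix.GeneralLinearGroup ι F) :=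
      { carrier := {g | (g : Matrix ι ι F) * k = k * (g : Matrix ι ι F)}
        mul_mem' := by
          intro a b ha hb
          simp only [Set.mem_ofPred_eq] at ha hb ⊢
          rw [Units.val_mul, mul_assoc, hb, ← mul_assoc, ha, mul_assoc]
        one_mem' := by simp
        inv_mem' := by
          intro a ha
          simp only [Set.mem_ofPred_eq] at ha ⊢
          calc ((a⁻¹ : Matrix.GeneralLinearGroup ι F) : Matrix ι ι F) * k
              = ((a⁻¹ : Matrix.GeneralLinearGroup ι F) : Matrix ι ι F) * (k * (a : Matrix ι ι F)) *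
                ((a⁻¹ : Matrix.GeneralLinearGroup ι F) : Matrix ι ι F) := by
                  rw [mul_assoc, mul_assoc, hmulinv, mul_one]
            _ = ((a⁻¹ : Matrix.GeneralLinearGroup ι F) : Matrix ι ι F) * ((a : Matrix ι ι F) * k) *
                ((a⁻¹ : Matrix.GeneralLinearGroup ι F) : Matrix ι ι F) := by rw [ha]
            _ = k * ((a⁻¹ : Matrix.GeneralLinearGroup ι F) : Matrix ι ι F) := by
                  rw [← mul_assoc, hinvmul, one_mul] }
    have hGS : G ≤ S := by
      rw [← hperf, Subgroup.commutator_le]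
      intro g hg h hh
      rw [commutatorElement_def]
      have hk1 : ((h⁻¹ : Matrix.GeneralLinearGroup ι F) : Matrix ι ι F) * k * (h : Matrix ι ι F) ∈ K := by
        have := hconj h⁻¹ (inv_mem hh) k hk
        rwa [inv_inv] at this
      have hk2 : ((g⁻¹ : Matrix.GeneralLinearGroup ι F) : Matrix ι ι F) *
          (((h⁻¹ : Matrix.GeneralLinearGroup ι F) : Matrix ι ι F) * k * (h : Matrix ι ι F)) *
          (g : Matrix ι ι F) ∈ K := by
        have := hconj g⁻¹ (inv_mem hg) _ hk1
        rwa [inv_inv] at this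
      have h1 := hcomm' h hh g hg _ hk2
      -- left side is `k`
      have hl : (h : Matrix ι ι F) * ((g : Matrix ι ι F) *
          (((g⁻¹ : Matrix.GeneralLinearGroup ι F) : Matrix ι ι F) *
          (((h⁻¹ : Matrix.GeneralLinearGroup ι F) : Matrix ι ι F) * k * (h : Matrix ι ι F)) *
          (g : Matrix ι ι F)) * ((g⁻¹ : Matrix.GeneralLinearGroup ι F) : Matrix ι ι F)) *
          ((h⁻¹ : Matrix.GeneralLinearGroup ι F) : Matrix ι ι F) = k := by
        calc _ = (h : Matrix ι ι F) * (((g : Matrix ι ι F) *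
          ((g⁻¹ : Matrix.GeneralLinearGroup ι F) : Matrix ι ι F)) *
          (((h⁻¹ : Matrix.GeneralLinearGroup ι F) : Matrix ι ι F) * k * (h : Matrix ι ι F)) *
          ((g : Matrix ι ι F) * ((g⁻¹ : Matrix.GeneralLinearGroup ι F) : Matrix ι ι F))) *
          ((h⁻¹ : Matrix.GeneralLinearGroup ι F) : Matrix ι ι F) := by simp only [mul_assoc]
          _ = ((h : Matrix ι ι F) * ((h⁻¹ : Matrix.GeneralLinearGroup ι F) : Matrix ι ι F)) * k *
            ((h : Matrix ι ι F) * ((h⁻¹ : Matrix.GeneralLinearGroup ι F) : Matrix ι ι F)) := by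
              rw [hmulinv g, one_mul, mul_one]; simp only [mul_assoc]
          _ = k := by rw [hmulinv, one_mul, mul_one]
      rw [hl] at h1
      change ((g * h * g⁻¹ * h⁻¹ : Matrix.GeneralLinearGroup ι F) : Matrix ι ι F) * k =
        k * ((g * h * g⁻¹ * h⁻¹ : Matrix.GeneralLinearGroup ι F) : Matrix ι ι F)
      have h2 : ((g * h * g⁻¹ * h⁻¹ : Matrix.GeneralLinearGroup ι F) : Matrix ι ι F) * k *
          ((g * h * g⁻¹ * h⁻¹ : Matrix.GeneralLinearGroup ι F)⁻¹ : Matrix.GeneralLinearGroup ι F) =
          k := by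
        conv_rhs => rw [h1]
        have : ((g * h * g⁻¹ * h⁻¹ : Matrix.GeneralLinearGroup ι F)⁻¹) = h * g * h⁻¹ * g⁻¹ := by group
        rw [this]
        simp only [Units.val_mul, mul_assoc]
      calc _ = ((g * h * g⁻¹ * h⁻¹ : Matrix.GeneralLinearGroup ι F) : Matrix ι ι F) * k *
          (((g * h * g⁻¹ * h⁻¹ : Matrix.GeneralLinearGroup ι F)⁻¹ :
            Matrix.GeneralLinearGroup ι F) : Matrix ι ι F) *
          ((g * h * g⁻¹ * h⁻¹ : Matrix.GeneralLinearGroup ι F) : Matrix ι ι F) := by
            rw [mul_assoc _ _ ((g * h * g⁻¹ * h⁻¹ : Matrix.GeneralLinearGroup ι F) : Matrix ι ι F),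
              hinvmul, mul_one]
        _ = _ := by rw [h2]
    exact fun g hg => hGS hg
  -- so `K` is scalar
  have hscal : K ≤ ⊥ := by
    intro k hk
    obtain ⟨c, hc⟩ := habs.2 k (by
      rintro _ ⟨g, hg, rfl⟩
      exact (hcent k hk g hg).symm)
    rw [Algebra.mem_bot]
    exact ⟨c, by rw [hc, Algebra.algebraMap_eq_smul_one]⟩
  have hKb : K = ⊥ := le_bot_iff.1 hscal
  have hMn : Nontrivial (Matrix ι ι F) := by
    obtain ⟨a, b, hab⟩ := hKn
    exact ⟨a.1, b.1, fun h => hab (Subtype.ext h)⟩
  have h1 := hK.finrank_eq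
  rw [hKb, Subalgebra.finrank_bot] at h1
  omega

end Cfsg.Agent.H918
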