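import Mathlib
import Cfsg.Prelude.Def_GeometricClasses
import Cfsg.Agent.LieClassical.HermPerfect
import Cfsg.Agent.ClassicalGeometry.UnitGenTwo
import Cfsg.Agent.ClassicalGeometry.UnitTransv

/-!
# `SU_n(q)` as a subgroup of `GL_n(q²)`

`SUg n F q = GU n F q ⊓ specialLinear (Fin n) F`, the form in which the statements on maximal subgroups
of the special unitary groups are written: generation by transvections, perfectness, normal subgroups,
transitivity on isotropic vectors, absolute irreducibility.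
-/

set_option autoImplicit false

namespace Cfsg.Agent.H918

open Cfsg Cfsg.Agent.LieClassical.HermBasic
open scoped Matrix MatrixGroups

/-- `SU_n(q)` as a subgroup of `GL_n`. -/
abbrev SUg (n : ℕ) (F : Type*) [Field F] (q : ℕ) : Subgroup (Matrix.GeneralLinearGroup (Fin n) F) :=
  Cfsg.GU n F q ⊓ Cfsg.Geo.specialLinear (Fin n) F

section Basic

variable {F : Type*} [Field F] {n q : ℕ}

theorem mem_GU {g : Matrix.GeneralLinearGroup (Fin n) F} : g ∈ Cfsg.GU n F q ↔
    ∀ u v, hermForm n F q ((g : Matrix (Fin n) (Fin n) F) *ᵥ u) ((g : Matrix (Fin n) (Fin n) F) *ᵥ v) =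
      hermForm n F q u v := Iff.rfl

theorem mem_specialLinear {ι : Type} [Fintype ι] [DecidableEq ι]
    {g : Matrix.GeneralLinearGroup ι F} : g ∈ Cfsg.Geo.specialLinear ι F ↔
    (g : Matrix ι ι F).det = 1 := by
  rw [Cfsg.Geo.specialLinear, MonoidHom.mem_ker]
  constructor
  · intro h
    have := congrArg Units.val h
    simpa using this
  · intro h
    apply Units.ext
    simpa using h

theorem mem_SUg {g : Matrix.GeneralLinearGroup (Fin n) F} : g ∈ SUg n F q ↔
    (∀ u v, hermForm n F q ((g : Matrix (Fin n) (Fin n) F) *ᵥ u) ((g : Matrix (Fin n) (Fin n) F) *ᵥ v) =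
      hermForm n F q u v) ∧ (g : Matrix (Fin n) (Fin n) F).det = 1 := by
  rw [Subgroup.mem_inf, mem_GU, mem_specialLinear]

/-- The embedding of `SU` in `GL`. -/
def suHom (n : ℕ) (F : Type*) [Field F] (q : ℕ) : Cfsg.SU n F q →* Matrix.GeneralLinearGroup (Fin n) F :=
  Matrix.SpecialLinearGroup.toGL.comp (Cfsg.SU n F q).subtype

theorem coe_suHom (A : Cfsg.SU n F q) : ((suHom n F q A : Matrix.GeneralLinearGroup (Fin n) F) :
    Matrix (Fin n) (Fin n) F) = ((A : Matrix.SpecialLinearGroup (Fin n) F) : Matrix (Fin n) (Fin n) F) := rfl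

theorem suHom_injective : Function.Injective (suHom n F q) := by
  intro A B h
  apply Subtype.ext
  apply Subtype.ext
  rw [← coe_suHom, ← coe_suHom, h]

theorem suHom_mem (A : Cfsg.SU n F q) : suHom n F q A ∈ SUg n F q := by
  rw [mem_SUg]
  exact ⟨fun u v => A.2 u v, (A : Matrix.SpecialLinearGroup (Fin n) F).2⟩

theorem exists_suHom {g : Matrix.GeneralLinearGroup (Fin n) F} (hg : g ∈ SUg n F q) :
    ∃ A : Cfsg.SU n F q, suHom n F q A = g := by
  rw [mem_SUg] at hg
  exact ⟨⟨⟨(g : Matrix (Fin n) (Fin n) F), hg.2⟩, hg.1⟩, Units.ext rfl⟩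

theorem range_suHom : (suHom n F q).range = SUg n F q := by
  ext g
  constructor
  · rintro ⟨A, rfl⟩
    exact suHom_mem A
  · intro hg
    exact exists_suHom hg

theorem map_suHom_top : (⊤ : Subgroup (Cfsg.SU n F q)).map (suHom n F q) = SUg n F q := by
  rw [← MonoidHom.range_eq_map, range_suHom]

end Basic

section Finite

variable {F : Type*} [Field F] [Fintype F] {n q : ℕ} (hF : Fintype.card F = q ^ 2)
include hF

/-- The unitary transvection `x ↦ x + c h(x, v) v` as an element of `GL`. -/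
def tv (v : Fin n → F) (c : F) (hv : hermForm n F q v v = 0) (hc : c + c ^ q = 0) :
    Matrix.GeneralLinearGroup (Fin n) F :=
  suHom n F q (Cfsg.Agent.ClassicalGeometry.UnitTransv.utv hF v c hv hc)

theorem tv_mem {v : Fin n → F} {c : F} (hv : hermForm n F q v v = 0) (hc : c + c ^ q = 0) :
    tv hF v c hv hc ∈ SUg n F q := suHom_mem _

theorem tv_mulVec {v : Fin n → F} {c : F} (hv : hermForm n F q v v = 0) (hc : c + c ^ q = 0)
    (x : Fin n → F) : (tv hF v c hv hc : Matrix (Fin n) (Fin n) F) *ᵥ x =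
      x + (c * hermForm n F q x v) • v :=
  Cfsg.Agent.ClassicalGeometry.UnitTransv.act_utv hF hv hc x

theorem coe_tv {v : Fin n → F} {c : F} (hv : hermForm n F q v v = 0) (hc : c + c ^ q = 0) :
    (tv hF v c hv hc : Matrix (Fin n) (Fin n) F) = 1 + c • Matrix.vecMulVec v (fun j => v j ^ q) := by
  have h : (tv hF v c hv hc : Matrix (Fin n) (Fin n) F) = Cfsg.unitaryTransvection n q v c := rfl
  rw [h]
  rfl

/-- `SU_n(q)` is generated by transvections. -/
theorem closure_tv (h32 : ¬ (n = 3 ∧ q = 2)) :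
    Subgroup.closure {g : Matrix.GeneralLinearGroup (Fin n) F | ∃ (v : Fin n → F) (c : F)
      (hv : hermForm n F q v v = 0) (hc : c + c ^ q = 0), g = tv hF v c hv hc} = SUg n F q := by
  apply le_antisymm
  · rw [Subgroup.closure_le]
    rintro _ ⟨v, c, hv, hc, rfl⟩
    exact tv_mem hF hv hc
  · rw [← map_suHom_top, ← Cfsg.Agent.ClassicalGeometry.UnitGenTwo.T_eq_top hF h32,
      Cfsg.Agent.ClassicalGeometry.UnitGen.T, MonoidHom.map_closure, Subgroup.closure_le]
    rintro _ ⟨A, ⟨v, c, hv, hA⟩, rfl⟩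
    rcases Cfsg.Agent.ClassicalGeometry.UnitTransv.eq_one_or_utv hF hv hA with h | ⟨-, hc, h⟩
    · rw [h, map_one]
      exact one_mem _
    · rw [h]
      exact Subgroup.subset_closure ⟨v, c, hv, hc, rfl⟩

/-- A subgroup containing every transvection contains `SU_n(q)`. -/
theorem SUg_le_of_tv (h32 : ¬ (n = 3 ∧ q = 2)) {K : Subgroup (Matrix.GeneralLinearGroup (Fin n) F)}
    (h : ∀ (v : Fin n → F) (c : F) (hv : hermForm n F q v v = 0) (hc : c + c ^ q = 0),
      tv hF v c hv hc ∈ K) : SUg n F q ≤ K := by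
  rw [← closure_tv hF h32, Subgroup.closure_le]
  rintro _ ⟨v, c, hv, hc, rfl⟩
  exact h v c hv hc

/-- `SU_n(q)` is perfect. -/
theorem SUg_perfect (hn : 3 ≤ n) (h32 : ¬ (n = 3 ∧ q = 2)) : ⁅SUg n F q, SUg n F q⁆ = SUg n F q := by
  rw [← map_suHom_top, ← Subgroup.map_commutator]
  congr 1
  exact Cfsg.Agent.LieClassical.HermPerfect.commutator_SU_eq_top hF hn h32

/-- Normal subgroups of `SU_n(q)`: scalar or everything. -/
theorem SUg_normal (hn : 3 ≤ n) (h32 : ¬ (n = 3 ∧ q = 2))
    {N : Subgroup (Matrix.GeneralLinearGroup (Fin n) F)} (hN : N ≤ SUg n F q)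
    (hnorm : ∀ g ∈ SUg n F q, ∀ x ∈ N, g * x * g⁻¹ ∈ N) :
    N ≤ Cfsg.Geo.scalars (Fin n) F ∨ N = SUg n F q := by
  have hNn : (N.comap (suHom n F q)).Normal := by
    refine ⟨fun x hx g => ?_⟩
    rw [Subgroup.mem_comap] at hx ⊢
    rw [map_mul, map_mul, map_inv]
    exact hnorm _ (suHom_mem g) _ hx
  by_cases hc : N.comap (suHom n F q) ≤ Subgroup.center (Cfsg.SU n F q)
  · left
    intro x hx
    obtain ⟨A, rfl⟩ := exists_suHom (hN hx)
    have hA : A ∈ Subgroup.center (Cfsg.SU n F q) := hc hx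
    rw [Cfsg.Agent.LieClassical.SUBasic.mem_center_SU_iff hF hn] at hA
    obtain ⟨c, hcn, hcq, hA⟩ := hA
    rw [Cfsg.Geo.mem_scalars_iff]
    have hc0 : c ≠ 0 := by
      rintro rfl
      rw [zero_pow (by omega)] at hcn
      exact zero_ne_one hcn
    refine ⟨Units.mk0 c hc0, ?_⟩
    rw [coe_suHom, hA]
    simp [Matrix.smul_one_eq_diagonal]
  · right
    have h := Cfsg.Agent.LieClassical.HermPerfect.normal_eq_top hF hn h32 hc
    apply le_antisymm hN
    intro x hx
    obtain ⟨A, rfl⟩ := exists_suHom hx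
    have : A ∈ N.comap (suHom n F q) := by rw [h]; exact Subgroup.mem_top _
    exact this

end Finite

end Cfsg.Agent.H918
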