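import Mathlib
import Cfsg.Agent.H918.UBase

/-!
# Reducible groups of unitary isometries

`unitary_reducible`: a subgroup of `GU_n(q)` which is not irreducible stabilises a non-zero totally singular
subspace, or a non-zero non-degenerate subspace of dimension less than `n / 2`, or a non-degenerate
decomposition into two subspaces of dimension `n / 2`.
-/

set_option autoImplicit false
set_option linter.unusedSectionVars false

namespace Cfsg.Agent.H918

open Cfsg Cfsg.Agent.LieClassical.HermBasic
open scoped Matrix MatrixGroups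

/-- The orthogonal complement for the Hermitian form. -/
def hperp {F : Type*} [Field F] {n : ℕ} (q : ℕ) (W : Submodule F (Fin n → F)) :
    Submodule F (Fin n → F) where
  carrier := {v | ∀ w ∈ W, hermForm n F q v w = 0}
  zero_mem' := fun w _ => herm_zero_left w
  add_mem' := fun {a b} ha hb w hw => by rw [herm_add_left, ha w hw, hb w hw, add_zero]
  smul_mem' := fun c {a} ha w hw => by rw [herm_smul_left, ha w hw, mul_zero]

section Finite

variable {F : Type*} [Field F] [Fintype F] {n q : ℕ} (hF : Fintype.card F = q ^ 2)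

omit [Fintype F] in
theorem mem_hperp {W : Submodule F (Fin n → F)} {v : Fin n → F} :
    v ∈ hperp q W ↔ ∀ w ∈ W, hermForm n F q v w = 0 := Iff.rfl

include hF

/-- The orthogonal complement has the expected dimension at least. -/
theorem finrank_hperp_ge (W : Submodule F (Fin n → F)) :
    n ≤ Module.finrank F W + Module.finrank F (hperp q W) := by
  let b := Module.finBasis F W
  let φ : (Fin n → F) →ₗ[F] (Fin (Module.finrank F W) → F) :=
    { toFun := fun v i => hermForm n F q v (b i)
      map_add' := fun u v => by funext i; exact herm_add_left _ _ _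
      map_smul' := fun c v => by funext i; exact herm_smul_left _ _ _ }
  have hker : LinearMap.ker φ ≤ hperp q W := by
    intro v hv
    rw [LinearMap.mem_ker] at hv
    rw [mem_hperp]
    intro w hw
    have hv' : ∀ i, hermForm n F q v (b i : Fin n → F) = 0 := fun i => congrFun hv i
    have h1 : (⟨w, hw⟩ : W) = ∑ i, b.repr ⟨w, hw⟩ i • b i := (b.sum_repr ⟨w, hw⟩).symm
    have h2 : w = ∑ i, b.repr ⟨w, hw⟩ i • (b i : Fin n → F) := by
      have h3 := congrArg W.subtype h1
      rw [map_sum] at h3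
      simpa only [Submodule.subtype_apply, map_smul] using h3
    rw [h2, herm_sum_right hF]
    apply Finset.sum_eq_zero
    intro i _
    rw [herm_smul_right, hv' i, mul_zero]
  have h1 := LinearMap.finrank_range_add_finrank_ker φ
  have h2 : Module.finrank F (LinearMap.range φ) ≤ Module.finrank F W := by
    refine (Submodule.finrank_le _).trans ?_
    rw [Module.finrank_fintype_fun_eq_card, Fintype.card_fin]
  have h3 := Submodule.finrank_mono hker
  rw [Module.finrank_fintype_fun_eq_card, Fintype.card_fin] at h1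
  omega

theorem inv_mulVec_mem {H : Subgroup (Matrix.GeneralLinearGroup (Fin n) F)}
    {W : Submodule F (Fin n → F)}
    (hW : ∀ s ∈ Geo.matrixSet H, W.map (Matrix.toLin' s) ≤ W)
    {g : Matrix.GeneralLinearGroup (Fin n) F} (hg : g ∈ H) {x : Fin n → F} (hx : x ∈ W) :
    (g : Matrix (Fin n) (Fin n) F) *ᵥ x ∈ W := by
  have := hW _ ⟨g, hg, rfl⟩ ⟨x, hx, rfl⟩
  rwa [Matrix.toLin'_apply] at this

theorem le_subspaceStabilizer {H : Subgroup (Matrix.GeneralLinearGroup (Fin n) F)}
    {W : Submodule F (Fin n → F)}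
    (hW : ∀ g ∈ H, ∀ x ∈ W, (g : Matrix (Fin n) (Fin n) F) *ᵥ x ∈ W) :
    H ≤ Geo.subspaceStabilizer W := by
  intro g hg v
  constructor
  · intro hv
    exact hW g hg v hv
  · intro hv
    have := hW g⁻¹ (H.inv_mem hg) _ hv
    change ((g⁻¹ : Matrix.GeneralLinearGroup (Fin n) F) : Matrix (Fin n) (Fin n) F) *ᵥ
      ((g : Matrix (Fin n) (Fin n) F) *ᵥ v) ∈ W at this
    rwa [Matrix.mulVec_mulVec, ← Units.val_mul, inv_mul_cancel, Units.val_one,
      Matrix.one_mulVec] at this

theorem hperp_invariant {H : Subgroup (Matrix.GeneralLinearGroup (Fin n) F)}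
    (hH : H ≤ Cfsg.GU n F q) {W : Submodule F (Fin n → F)}
    (hW : ∀ g ∈ H, ∀ x ∈ W, (g : Matrix (Fin n) (Fin n) F) *ᵥ x ∈ W) :
    ∀ g ∈ H, ∀ x ∈ hperp q W, (g : Matrix (Fin n) (Fin n) F) *ᵥ x ∈ hperp q W := by
  intro g hg x hx
  rw [mem_hperp] at hx ⊢
  intro w hw
  have h1 := hW g⁻¹ (H.inv_mem hg) w hw
  have h2 : (g : Matrix (Fin n) (Fin n) F) *ᵥ
      (((g⁻¹ : Matrix.GeneralLinearGroup (Fin n) F) : Matrix (Fin n) (Fin n) F) *ᵥ w) = w := by
    rw [Matrix.mulVec_mulVec, ← Units.val_mul, mul_inv_cancel, Units.val_one, Matrix.one_mulVec]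
  have h3 := (hH hg) x (((g⁻¹ : Matrix.GeneralLinearGroup (Fin n) F) : Matrix (Fin n) (Fin n) F) *ᵥ w)
  change hermForm n F q ((g : Matrix (Fin n) (Fin n) F) *ᵥ x) ((g : Matrix (Fin n) (Fin n) F) *ᵥ
    (((g⁻¹ : Matrix.GeneralLinearGroup (Fin n) F) : Matrix (Fin n) (Fin n) F) *ᵥ w)) = _ at h3
  rw [h2] at h3
  rw [h3]
  exact hx _ h1

/-- A subspace meeting its orthogonal complement trivially is non-degenerate, so is the complement, and they
are complementary. -/
theorem nondegenerate_of_inf_eq_bot {W : Submodule F (Fin n → F)} (h : W ⊓ hperp q W = ⊥) :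
    Geo.IsNondegenerateOn (hermForm n F q) W ∧
    Geo.IsNondegenerateOn (hermForm n F q) (hperp q W) ∧ W ⊔ hperp q W = ⊤ ∧
    Module.finrank F W + Module.finrank F (hperp q W) = n := by
  have hle := finrank_hperp_ge hF W
  have h1 := Submodule.finrank_sup_add_finrank_inf_eq W (hperp q W)
  rw [h, finrank_bot, add_zero] at h1
  have h2 : Module.finrank F (W ⊔ hperp q W : Submodule F (Fin n → F)) ≤ n := by
    refine (Submodule.finrank_le _).trans ?_
    rw [Module.finrank_fintype_fun_eq_card, Fintype.card_fin]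
  have hsum : Module.finrank F W + Module.finrank F (hperp q W) = n := by omega
  have htop : W ⊔ hperp q W = ⊤ := by
    apply Submodule.eq_top_of_finrank_eq
    rw [h1, hsum, Module.finrank_fintype_fun_eq_card, Fintype.card_fin]
  have key : ∀ U U' : Submodule F (Fin n → F), U ⊔ U' = ⊤ →
      (∀ u ∈ U, ∀ v ∈ U', hermForm n F q u v = 0) → Geo.IsNondegenerateOn (hermForm n F q) U := by
    intro U U' hUU' ho w hw hw0
    obtain ⟨x, hx⟩ := exists_herm_ne_zero hF hw0
    obtain ⟨y, hy, z, hz, rfl⟩ := Submodule.mem_sup.1 (show x ∈ U ⊔ U' by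
      rw [hUU']; exact Submodule.mem_top)
    rw [herm_add_right hF, ho w hw z hz, add_zero] at hx
    refine ⟨⟨y, hy, ?_⟩, ⟨y, hy, hx⟩⟩
    intro h0
    exact hx (herm_eq_zero_swap hF h0)
  refine ⟨key W (hperp q W) htop ?_, key (hperp q W) W (by rw [sup_comm]; exact htop) ?_, htop, hsum⟩
  · intro u hu v hv
    exact herm_eq_zero_swap hF (hv u hu)
  · intro u hu v hv
    exact hu v hv

/-- Reducible subgroups of `GU_n(q)`. -/
theorem unitary_reducible {H : Subgroup (Matrix.GeneralLinearGroup (Fin n) F)}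
    (hH : H ≤ Cfsg.GU n F q) (hred : ¬ Geo.ActsIrreducibly (Geo.matrixSet H)) :
    (∃ W : Submodule F (Fin n → F), W ≠ ⊥ ∧ Geo.IsTotallySingularFor (hermForm n F q) W ∧
      H ≤ Geo.subspaceStabilizer W) ∨
    (∃ W : Submodule F (Fin n → F), W ≠ ⊥ ∧ Geo.IsNondegenerateOn (hermForm n F q) W ∧
      2 * Module.finrank F W < n ∧ H ≤ Geo.subspaceStabilizer W) ∨
    (∃ (k : ℕ) (D : Fin 2 → Submodule F (Fin n → F)), 2 * k = n ∧
      Geo.IsNondegenerateMDecomposition (hermForm n F q) k D ∧ H ≤ Geo.decompositionStabilizer D) := by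
  unfold Geo.ActsIrreducibly at hred
  push Not at hred
  obtain ⟨W, hW, hW0, hW1⟩ := hred
  have hinv : ∀ g ∈ H, ∀ x ∈ W, (g : Matrix (Fin n) (Fin n) F) *ᵥ x ∈ W := fun g hg x hx =>
    inv_mulVec_mem hF hW hg hx
  have hinv' := hperp_invariant hF hH hinv
  by_cases hb : W ⊓ hperp q W = ⊥
  swap
  · left
    refine ⟨W ⊓ hperp q W, hb, fun u hu v hv => hu.2 v hv.1, le_subspaceStabilizer hF ?_⟩
    intro g hg x hx
    exact ⟨hinv g hg x hx.1, hinv' g hg x hx.2⟩
  obtain ⟨hn1, hn2, htop, hsum⟩ := nondegenerate_of_inf_eq_bot hF hb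
  have hp0 : hperp q W ≠ ⊥ := by
    intro h
    rw [h, sup_bot_eq] at htop
    exact hW1 htop
  right
  rcases lt_trichotomy (Module.finrank F W) (Module.finrank F (hperp q W)) with h | h | h
  · left
    exact ⟨W, hW0, hn1, by omega, le_subspaceStabilizer hF hinv⟩
  · right
    have hpos : 0 < Module.finrank F W := by
      rw [Module.finrank_pos_iff]
      exact Submodule.nontrivial_iff_ne_bot.2 hW0
    have hmap : ∀ (U : Submodule F (Fin n → F)), (∀ g ∈ H, ∀ x ∈ U,
        (g : Matrix (Fin n) (Fin n) F) *ᵥ x ∈ U) → ∀ g ∈ H,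
        U.map (Matrix.toLin' (g : Matrix (Fin n) (Fin n) F)) = U := by
      intro U hU g hg
      apply le_antisymm
      · rintro _ ⟨x, hx, rfl⟩
        rw [Matrix.toLin'_apply]
        exact hU g hg x hx
      · intro x hx
        refine ⟨_, hU g⁻¹ (H.inv_mem hg) x hx, ?_⟩
        rw [Matrix.toLin'_apply, Matrix.mulVec_mulVec, ← Units.val_mul, mul_inv_cancel,
          Units.val_one, Matrix.one_mulVec]
    refine ⟨Module.finrank F W, ![W, hperp q W], by omega, ⟨⟨le_rfl, hpos, ?_, ?_, ?_⟩, ?_, ?_⟩, ?_⟩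
    · intro i
      fin_cases i
      · rfl
      · exact h.symm
    · rw [iSupIndep_pair (i := (0 : Fin 2)) (j := 1) (by decide) (by decide)]
      exact disjoint_iff.2 hb
    · rw [eq_top_iff, ← htop]
      exact sup_le (le_iSup (![W, hperp q W]) 0) (le_iSup (![W, hperp q W]) 1)
    · intro i
      fin_cases i
      · exact hn1
      · exact hn2
    · intro i j hij
      fin_cases i <;> fin_cases j
      · exact absurd rfl hij
      · intro u hu v hv
        exact herm_eq_zero_swap hF (hv u hu)
      · intro u hu v hv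
        exact hu v hv
      · exact absurd rfl hij
    · intro g hg
      refine ⟨1, fun i => ?_⟩
      fin_cases i
      · exact hmap W hinv g hg
      · exact hmap _ hinv' g hg
  · left
    exact ⟨hperp q W, hp0, hn2, by omega, le_subspaceStabilizer hF hinv'⟩

end Finite

end Cfsg.Agent.H918
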