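import Mathlib
import Cfsg.Agent.H918.UWrap
import Cfsg.Agent.H930.UnitaryTwo
import Cfsg.Agent.H930.UnitaryTensor

/-!
# The maximal subgroups of `SU_8(q)` from membership in a geometric class or the residual class
-/

set_option autoImplicit false

namespace Cfsg.Agent.H918

open Cfsg Cfsg.Agent.LieClassical.HermBasic
open scoped Matrix MatrixGroups

/-- The list for `SU_8(q)`, given that `H` is in a member of a class or in the residual class. -/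
theorem su8_cases {F : Type*} [Field F] [Fintype F] (q : ℕ) (hF : Fintype.card F = q ^ 2)
    (H : Subgroup (Matrix.GeneralLinearGroup (Fin 8) F))
    (hH : Cfsg.Geo.IsMaximalIn (Cfsg.GU 8 F q ⊓ Cfsg.Geo.specialLinear (Fin 8) F) H)
    (h : (∃ M : Subgroup (Matrix.GeneralLinearGroup (Fin 8) F), Geo.InUnitaryClass 8 F q M ∧ H ≤ M) ∨
      Geo.InUnitaryResidualClass H) :
    (∃ W : Submodule F (Fin 8 → F), W ≠ ⊥ ∧ Cfsg.Geo.IsTotallySingularFor (Cfsg.hermForm 8 F q) W ∧ H = Cfsg.Geo.subspaceStabilizer W ⊓ (Cfsg.GU 8 F q ⊓ Cfsg.Geo.specialLinear (Fin 8) F)) ∨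
    (∃ W : Submodule F (Fin 8 → F), W ≠ ⊥ ∧ Cfsg.Geo.IsNondegenerateOn (Cfsg.hermForm 8 F q) W ∧ 2 * Module.finrank F W < 8 ∧ H = Cfsg.Geo.subspaceStabilizer W ⊓ (Cfsg.GU 8 F q ⊓ Cfsg.Geo.specialLinear (Fin 8) F)) ∨
    (∃ D : Fin 8 → Submodule F (Fin 8 → F), Cfsg.Geo.IsNondegenerateMDecomposition (Cfsg.hermForm 8 F q) 1 D ∧ H = Cfsg.Geo.decompositionStabilizer D ⊓ (Cfsg.GU 8 F q ⊓ Cfsg.Geo.specialLinear (Fin 8) F)) ∨
    (3 ≤ q ∧ ∃ D : Fin 4 → Submodule F (Fin 8 → F), Cfsg.Geo.IsNondegenerateMDecomposition (Cfsg.hermForm 8 F q) 2 D ∧ H = Cfsg.Geo.decompositionStabilizer D ⊓ (Cfsg.GU 8 F q ⊓ Cfsg.Geo.specialLinear (Fin 8) F)) ∨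
    (∃ D : Fin 2 → Submodule F (Fin 8 → F), Cfsg.Geo.IsNondegenerateMDecomposition (Cfsg.hermForm 8 F q) 4 D ∧ H = Cfsg.Geo.decompositionStabilizer D ⊓ (Cfsg.GU 8 F q ⊓ Cfsg.Geo.specialLinear (Fin 8) F)) ∨
    (∃ D : Fin 2 → Submodule F (Fin 8 → F), Cfsg.Geo.IsMDecomposition 4 D ∧ (∀ i, Cfsg.Geo.IsTotallySingularFor (Cfsg.hermForm 8 F q) (D i)) ∧ H = Cfsg.Geo.decompositionStabilizer D ⊓ (Cfsg.GU 8 F q ⊓ Cfsg.Geo.specialLinear (Fin 8) F)) ∨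
    (3 ≤ q ∧ ∃ (e : Fin 8 ≃ Fin 2 × Fin 4) (P : Matrix.GeneralLinearGroup (Fin 8) F) (f₁ : (Fin 2 → F) → (Fin 2 → F) → F) (f₂ : (Fin 4 → F) → (Fin 4 → F) → F), Cfsg.Geo.IsUnitaryFormPow q f₁ ∧ Cfsg.Geo.IsUnitaryFormPow q f₂ ∧ Cfsg.Geo.IsTensorFormStructure (fun x : F => x ^ q) (Cfsg.hermForm 8 F q) f₁ f₂ e P ∧ H = Cfsg.Geo.tensorProductSubgroup 2 4 e P ⊓ (Cfsg.GU 8 F q ⊓ Cfsg.Geo.specialLinear (Fin 8) F)) ∨
    (∃ (F₀ : Subfield F) (r : ℕ) (P : Matrix.GeneralLinearGroup (Fin 8) F), r.Prime ∧ Odd r ∧ Fintype.card F = Nat.card F₀ ^ r ∧ Cfsg.Geo.IsFormRationalStructure (Cfsg.hermForm 8 F q) F₀ 1 P ∧ H = Cfsg.Geo.subfieldSubgroup F₀ P ⊓ (Cfsg.GU 8 F q ⊓ Cfsg.Geo.specialLinear (Fin 8) F)) ∨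
    (∃ (F₀ : Subfield F) (P : Matrix.GeneralLinearGroup (Fin 8) F) (ζ : F), Fintype.card F = Nat.card F₀ ^ 2 ∧ ζ ≠ 0 ∧ ζ + ζ ^ q = 0 ∧ Cfsg.Geo.IsFormRationalStructure (Cfsg.hermForm 8 F q) F₀ ζ P ∧ (∀ u : Fin 8 → F, (∀ i, u i ∈ F₀) → (Cfsg.hermForm 8 F q) (Matrix.mulVec (P : Matrix (Fin 8) (Fin 8) F) u) (Matrix.mulVec (P : Matrix (Fin 8) (Fin 8) F) u) = 0) ∧ H = Cfsg.Geo.subfieldSubgroup F₀ P ⊓ (Cfsg.GU 8 F q ⊓ Cfsg.Geo.specialLinear (Fin 8) F)) ∨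
    (Odd q ∧ ∃ (F₀ : Subfield F) (P : Matrix.GeneralLinearGroup (Fin 8) F), Fintype.card F = Nat.card F₀ ^ 2 ∧ Cfsg.Geo.IsFormRationalStructure (Cfsg.hermForm 8 F q) F₀ 1 P ∧ H = Cfsg.Geo.subfieldSubgroup F₀ P ⊓ (Cfsg.GU 8 F q ⊓ Cfsg.Geo.specialLinear (Fin 8) F)) ∨
    (∃ (p : ℕ) (R : Subgroup (Matrix.GeneralLinearGroup (Fin 8) F)), p.Prime ∧ q = p ∧ p % 4 = 3 ∧ Cfsg.Geo.IsSymplecticTypeGroup 2 R ∧ Cfsg.Geo.ActsAbsolutelyIrreducibly (Cfsg.Geo.matrixSet R) ∧ R ≤ Cfsg.Geo.similarityGroup (Cfsg.hermForm 8 F q) ∧ Nat.card R = 256 ∧ Nat.card (Subgroup.center R) = 4 ∧ H = Cfsg.Geo.subgroupNormalizer R ⊓ (Cfsg.GU 8 F q ⊓ Cfsg.Geo.specialLinear (Fin 8) F)) ∨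
    Cfsg.Geo.InUnitaryResidualClass H := by
  have hn : 3 ≤ 8 := by norm_num
  have h32 : ¬ ((8 : ℕ) = 3 ∧ q = 2) := by norm_num
  have hHG : H ≤ Cfsg.GU 8 F q := hH.1.le.trans inf_le_left
  have hq2 : 2 ≤ q := two_le hF
  have hq : 3 ≤ q ∨ q = 2 := by omega
  rcases unitary_maximal_cases hF hn h32 hH (by
      intro k t e P hk ht hkt _
      exfalso
      have h1 : t < 3 := by
        by_contra hcon
        push Not at hcon
        have : 3 ^ 3 ≤ k ^ t := (Nat.pow_le_pow_left hk 3).trans (Nat.pow_le_pow_right (by omega) hcon)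
        omega
      have h2 : t = 2 := by omega
      subst h2
      have : 3 ^ 2 ≤ k ^ 2 := Nat.pow_le_pow_left hk 2
      omega) h with
    h | h | ⟨t, k, D, htk, ht, hD, h⟩ | ⟨k, D, hk, hD, hs, h⟩ | h | h | ⟨F₀, P, ζ, -, h⟩ |
    ⟨r, R, p, e, k, -, -, -, -, -, hro, -, hk, -, hn8, -⟩ |
    ⟨R, p, k, hp, hqp, hp4, hR, habs, hRs, hz, hcR, hn8, h⟩ | ⟨r, K, hr, hro, hrn, -, -, -⟩ |
    ⟨n₁, n₂, e, P, f₁, f₂, hnn, h2, hlt, hf₁, hf₂, hf, h⟩ | ⟨k, t, -, -, -, hkt, hk, ht, -⟩ | h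
  · exact Or.inl h
  · exact Or.inr (Or.inl h)
  · -- non-degenerate decompositions
    have hkpos := hD.decomp.pos
    have hcase : (t = 8 ∧ k = 1) ∨ (t = 4 ∧ k = 2) ∨ (t = 2 ∧ k = 4) := by
      have h1 : t ∣ 8 := ⟨k, htk.symm⟩
      have h2 : t ≤ 8 := Nat.le_of_dvd (by norm_num) h1
      interval_cases t <;> omega
    rcases hcase with ⟨rfl, rfl⟩ | ⟨rfl, rfl⟩ | ⟨rfl, rfl⟩
    · exact Or.inr (Or.inr (Or.inl ⟨D, hD, h⟩))
    · rcases hq with hq | hq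
      · iterate 3 right
        left
        exact ⟨hq, D, hD, h⟩
      · subst hq
        obtain ⟨E, hE, hE'⟩ := Cfsg.Agent.H930.exists_refinement hF
          (Cfsg.Agent.H930.hermForm_isUnitaryFormPow hF 8) hD
        iterate 2 right
        left
        refine ⟨E, hE, eq_inf_of_maximal hH (fun g hg => hE' g (hHG hg) ?_)
          (SUg_not_le_decompositionStabilizer hF hn h32 hE.decomp)⟩
        rw [h] at hg
        exact hg.1
    · iterate 4 right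
      left
      exact ⟨D, hD, h⟩
  · have hk4 : k = 4 := by omega
    subst hk4
    iterate 5 right
    left
    exact ⟨D, hD, hs, h⟩
  · iterate 7 right
    left
    exact h
  · obtain ⟨F₀, P, hq, h⟩ := h
    iterate 9 right
    left
    exact ⟨hq, F₀, P, h⟩
  · iterate 8 right
    left
    exact ⟨F₀, P, ζ, h⟩
  · -- no odd prime power
    exfalso
    have h1 : Odd (r ^ k) := hro.pow
    rw [← hn8] at h1
    exact absurd h1 (by decide)
  · have hk3 : k = 3 := by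
      have : 2 ^ k = 2 ^ 3 := by rw [← hn8]; norm_num
      exact Nat.pow_right_injective le_rfl this
    subst hk3
    iterate 10 right
    left
    exact ⟨p, R, hp, hqp, hp4, hR, habs, hRs, by rw [hcR]; norm_num, hz, h⟩
  · -- no odd prime divisor
    exfalso
    have h1 : r ∣ 2 ^ 3 := by norm_num; exact hrn
    have h2 := (Nat.prime_dvd_prime_iff_eq hr Nat.prime_two).1 (hr.dvd_of_dvd_pow h1)
    subst h2
    exact absurd hro (by decide)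
  · have hcase : n₁ = 2 ∧ n₂ = 4 := by
      have h3 : n₁ < 3 := by
        by_contra hcon
        push Not at hcon
        have : 3 * 4 ≤ n₁ * n₂ := Nat.mul_le_mul hcon (by omega)
        omega
      have h4 : n₁ = 2 := by omega
      subst h4
      omega
    obtain ⟨rfl, rfl⟩ := hcase
    rcases hq with hq | hq
    · iterate 6 right
      left
      exact ⟨hq, e, P, f₁, f₂, hf₁, hf₂, hf, h⟩
    · subst hq
      obtain ⟨E, hE, hE'⟩ := Cfsg.Agent.H930.exists_decomposition_of_tensor_two hF (by norm_num)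
        hf₁ hf₂ hf
      iterate 4 right
      left
      refine ⟨E, hE, eq_inf_of_maximal hH (fun g hg => hE' g (hHG hg) ?_)
        (SUg_not_le_decompositionStabilizer hF hn h32 hE.decomp)⟩
      rw [h] at hg
      exact hg.1
  · exfalso
    have h1 : t < 3 := by
      by_contra hcon
      push Not at hcon
      have : 3 ^ 3 ≤ k ^ t := (Nat.pow_le_pow_left hk 3).trans (Nat.pow_le_pow_right (by omega) hcon)
      omega
    have h2 : t = 2 := by omega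
    subst h2
    have : 3 ^ 2 ≤ k ^ 2 := Nat.pow_le_pow_left hk 2
    omega
  · iterate 11 right
    exact h

end Cfsg.Agent.H918
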