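import Mathlib

/-!
# Anticommuting pairs of involutions halve the dimension

`halving`: if `x_i`, `y_i` (`i < m`) are involutions of the space `V` (characteristic different from 2) with
`x_i y_i = - y_i x_i` and all other pairs commuting, then `2 ^ m` divides `dim V`.
-/

set_option autoImplicit false

namespace Cfsg.Agent.H918.Min

open Module

universe u v

variable {K : Type u} [Field K]

/-- The space of fixed vectors of an involution. -/
def fixSp {V : Type v} [AddCommGroup V] [Module K V] (x : End K V) : Submodule K V := LinearMap.ker (x - 1)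

theorem mem_fixSp {V : Type v} [AddCommGroup V] [Module K V] {x : End K V} {v : V} : v ∈ fixSp x ↔ x v = v := by
  rw [fixSp, LinearMap.mem_ker, LinearMap.sub_apply, Module.End.one_apply, sub_eq_zero]

theorem mapsTo_fixSp {V : Type v} [AddCommGroup V] [Module K V] {x a : End K V} (h : Commute x a) :
    ∀ v ∈ fixSp x, a v ∈ fixSp x := by
  intro v hv
  rw [mem_fixSp] at hv ⊢
  rw [← Module.End.mul_apply, h.eq, Module.End.mul_apply, hv]

theorem finrank_eq_two_mul (h2 : (2 : K) ≠ 0) {V : Type v} [AddCommGroup V] [Module K V] [FiniteDimensional K V]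
    {x y : End K V} (hx : x * x = 1) (hy : y * y = 1) (hxy : x * y = - (y * x)) :
    finrank K V = 2 * finrank K (fixSp x) := by
  have hx' : ∀ v, x (x v) = v := fun v => by rw [← Module.End.mul_apply, hx, Module.End.one_apply]
  have hy' : ∀ v, y (y v) = v := fun v => by rw [← Module.End.mul_apply, hy, Module.End.one_apply]
  have hxy' : ∀ v, x (y v) = - y (x v) := fun v => by
    rw [← Module.End.mul_apply, hxy, LinearMap.neg_apply, Module.End.mul_apply]
  have hcompl : IsCompl (fixSp x) (fixSp (-x)) := by
    constructor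
    · rw [Submodule.disjoint_def]
      intro v hv hv'
      rw [mem_fixSp] at hv hv'
      rw [LinearMap.neg_apply, hv] at hv'
      have h3 : (2 : K) • v = 0 := by
        rw [two_smul]
        nth_rewrite 1 [← hv']
        exact neg_add_cancel v
      exact (smul_eq_zero.1 h3).resolve_left h2
    · rw [codisjoint_iff, eq_top_iff]
      intro v _
      rw [Submodule.mem_sup]
      refine ⟨(2 : K)⁻¹ • (v + x v), ?_, (2 : K)⁻¹ • (v - x v), ?_, ?_⟩
      · rw [mem_fixSp, map_smul, map_add, hx', add_comm]
      · rw [mem_fixSp, LinearMap.neg_apply, map_smul, map_sub, hx', ← smul_neg, neg_sub]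
      · rw [← smul_add, add_add_sub_cancel, ← two_smul K v, smul_smul, inv_mul_cancel₀ h2, one_smul]
  let e : V ≃ₗ[K] V := LinearEquiv.ofLinearMap y y (by ext v; simp [hy']) (by ext v; simp [hy'])
  have h1 : finrank K (fixSp x) ≤ finrank K (fixSp (-x)) := by
    rw [← LinearEquiv.finrank_map_eq e (fixSp x)]
    apply Submodule.finrank_mono
    rintro _ ⟨v, hv, rfl⟩
    have hv' : x v = v := mem_fixSp.1 hv
    rw [mem_fixSp]
    change (-x) (y v) = y v
    rw [LinearMap.neg_apply, hxy', neg_neg, hv']
  have h3 : finrank K (fixSp (-x)) ≤ finrank K (fixSp x) := by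
    rw [← LinearEquiv.finrank_map_eq e (fixSp (-x))]
    apply Submodule.finrank_mono
    rintro _ ⟨v, hv, rfl⟩
    have hv' : (-x) v = v := mem_fixSp.1 hv
    rw [LinearMap.neg_apply] at hv'
    rw [mem_fixSp]
    change x (y v) = y v
    rw [hxy', ← map_neg, hv']
  have h4 := Submodule.finrank_add_eq_of_isCompl hcompl
  omega

/-- **Anticommuting pairs halve the dimension.** -/
theorem halving (h2 : (2 : K) ≠ 0) : ∀ (m : ℕ) {V : Type v} [AddCommGroup V] [Module K V] [FiniteDimensional K V]
    (x y : Fin m → End K V), (∀ i, x i * x i = 1) → (∀ i, y i * y i = 1) → (∀ i, x i * y i = - (y i * x i)) →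
    (∀ i j, i ≠ j → Commute (x i) (x j)) → (∀ i j, i ≠ j → Commute (x i) (y j)) →
    (∀ i j, i ≠ j → Commute (y i) (y j)) → 2 ^ m ∣ finrank K V := by
  intro m
  induction m with
  | zero =>
    intro V _ _ _ x y _ _ _ _ _ _
    exact one_dvd _
  | succ m ih =>
    intro V _ _ _ x y hx hy hxy hxx hxy' hyy
    have hX : ∀ i : Fin m, ∀ v ∈ fixSp (x 0), x i.succ v ∈ fixSp (x 0) := fun i =>
      mapsTo_fixSp (hxx 0 i.succ (Fin.succ_ne_zero i).symm)
    have hY : ∀ i : Fin m, ∀ v ∈ fixSp (x 0), y i.succ v ∈ fixSp (x 0) := fun i =>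
      mapsTo_fixSp (hxy' 0 i.succ (Fin.succ_ne_zero i).symm)
    have hcomm : ∀ {a b : End K V} (ha : ∀ v ∈ fixSp (x 0), a v ∈ fixSp (x 0))
        (hb : ∀ v ∈ fixSp (x 0), b v ∈ fixSp (x 0)), Commute a b → Commute (a.restrict ha) (b.restrict hb) := by
      intro a b ha hb hab
      ext v
      change a (b (v : V)) = b (a (v : V))
      rw [← Module.End.mul_apply, hab.eq, Module.End.mul_apply]
    have h := ih (V := fixSp (x 0)) (fun i => (x i.succ).restrict (hX i)) (fun i => (y i.succ).restrict (hY i))
      (fun i => by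
        ext v
        change x i.succ (x i.succ (v : V)) = (v : V)
        rw [← Module.End.mul_apply, hx, Module.End.one_apply])
      (fun i => by
        ext v
        change y i.succ (y i.succ (v : V)) = (v : V)
        rw [← Module.End.mul_apply, hy, Module.End.one_apply])
      (fun i => by
        ext v
        change x i.succ (y i.succ (v : V)) = - (y i.succ (x i.succ (v : V)))
        rw [← Module.End.mul_apply, hxy, LinearMap.neg_apply, Module.End.mul_apply])
      (fun i j hij => hcomm _ _ (hxx _ _ (fun h => hij (Fin.succ_injective m h))))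
      (fun i j hij => hcomm _ _ (hxy' _ _ (fun h => hij (Fin.succ_injective m h))))
      (fun i j hij => hcomm _ _ (hyy _ _ (fun h => hij (Fin.succ_injective m h))))
    rw [finrank_eq_two_mul h2 (hx 0) (hy 0) (hxy 0), pow_succ, mul_comm]
    exact Nat.mul_dvd_mul_left 2 h

end Cfsg.Agent.H918.Min
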