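import Cfsg.Agent.H918.MinChar

/-!
# LEMMA MIN for `r = 2`

Let `R` be a normal subgroup of `Y` with `Z ≤ R` central in `Y`, `|R / Z| = 4 ^ k`, `R / Z` elementary abelian, all
nontrivial commutators of `R` equal, `Z = Z(R)`, and `Y` transitive on `R / Z` minus 1.  A projective representation of
`Y` of degree `n` over a field of characteristic different from 2, scalar on `Z` and not scalar on `R`, has
`2 ^ k ∣ n` or `4 ^ k - 1 ≤ n (n - 1) / 2`.
-/

set_option autoImplicit false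
set_option linter.unusedSectionVars false

namespace Cfsg.Agent.H918.Min

open Module

universe u v w

section

variable {Y : Type w} [Group Y] {R Z : Subgroup Y} {K : Type u} [Field K] {V : Type v} [AddCommGroup V] [Module K V]
  [FiniteDimensional K V] [Nontrivial V] {M : Y → (End K V)ˣ} {N : Y → End K V}

/-- A common eigenvector. -/
def IsWt (R : Subgroup Y) (N : Y → End K V) (w : R → K) : Prop := ∃ v : V, v ≠ 0 ∧ ∀ x : R, N x v = w x • v

theorem isWt_iff {w : R → K} : joint (fun x : R => N x) w ≠ ⊥ ↔ IsWt R N w := by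
  rw [Submodule.ne_bot_iff]
  constructor
  · rintro ⟨v, hv, hv0⟩
    exact ⟨v, hv0, fun x => mem_joint.1 hv x⟩
  · rintro ⟨v, hv0, hv⟩
    exact ⟨v, mem_joint.2 hv, hv0⟩

theorem IsWt.sq (hN : Lift R Z M N) {w : R → K} (hw : IsWt R N w) (x : R) : w x * w x = 1 := by
  obtain ⟨v, hv0, hv⟩ := hw
  have h1 : N x (N x v) = v := by rw [← Module.End.mul_apply, hN.sq x x.2, Module.End.one_apply]
  rw [hv, map_smul, hv, smul_smul] at h1
  by_contra hne
  have h3 : (w x * w x - 1) • v = 0 := by rw [sub_smul, h1, one_smul, sub_self]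
  rcases smul_eq_zero.1 h3 with h4 | h4
  · exact hne (sub_eq_zero.1 h4)
  · exact hv0 h4

theorem IsWt.mul {w : R → K} (hw : IsWt R N w) {x y : R} {c : K} (hc : N ((x : Y) * y) = c • (N x * N y)) :
    w (x * y) = c * (w x * w y) := by
  obtain ⟨v, hv0, hv⟩ := hw
  have h1 : N ((x * y : R) : Y) v = (c * (w x * w y)) • v := by
    rw [Subgroup.coe_mul, hc, LinearMap.smul_apply, Module.End.mul_apply, hv, map_smul, hv, smul_smul, smul_smul]
    congr 1
    ring
  rw [hv] at h1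
  have h3 : (w (x * y) - c * (w x * w y)) • v = 0 := by rw [sub_smul, h1, sub_self]
  rcases smul_eq_zero.1 h3 with h4 | h4
  · exact sub_eq_zero.1 h4
  · exact absurd h4 hv0

theorem sq_one_of_smul {c : K} {A B : End K V} (hA : A * A = 1) (hB : B * B = 1) (h : A = c • B) : c * c = 1 := by
  rw [h, smul_mul_smul_comm, hB] at hA
  by_contra hne
  have h3 : (c * c - 1) • (1 : End K V) = 0 := by rw [sub_smul, hA, one_smul, sub_self]
  rcases smul_eq_zero.1 h3 with h4 | h4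
  · exact hne (sub_eq_zero.1 h4)
  · exact one_ne_zero h4

/-- The quotient of two weights is a sign character. -/
theorem isChi_of_wt (hN : Lift R Z M N) (hcomm : ∀ x ∈ R, ∀ y ∈ R, N x * N y = N y * N x)
    {w w' : R → K} (hw : IsWt R N w) (hw' : IsWt R N w') : IsChi R Z K (fun x => w x * w' x) := by
  refine ⟨fun x y => ?_, fun x => ?_, fun z hz => ?_⟩
  · obtain ⟨c, hc⟩ := hN.mul x x.2 y y.2
    have hAB : (N x * N y) * (N x * N y) = 1 := by
      have : (N x * N y) * (N x * N y) = N x * (N y * N x) * N y := by noncomm_ring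
      rw [this, ← hcomm x x.2 y y.2, ← mul_assoc (N x) (N x), hN.sq x x.2, one_mul, hN.sq y y.2]
    have hcc := sq_one_of_smul (hN.sq _ (R.mul_mem x.2 y.2)) hAB hc
    rw [hw.mul hc, hw'.mul hc]
    calc c * (w x * w y) * (c * (w' x * w' y)) = (c * c) * (w x * w' x * (w y * w' y)) := by ring
      _ = w x * w' x * (w y * w' y) := by rw [hcc, one_mul]
  · calc w x * w' x * (w x * w' x) = (w x * w x) * (w' x * w' x) := by ring
      _ = 1 := by rw [hw.sq hN, hw'.sq hN, one_mul]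
  · obtain ⟨c, hc⟩ := hN.scal z hz
    have h1 : ∀ u : R → K, IsWt R N u → u z = c := by
      rintro u ⟨v, hv0, hv⟩
      have h3 := hv z
      rw [hc, LinearMap.smul_apply, Module.End.one_apply] at h3
      have h4 : (c - u z) • v = 0 := by rw [sub_smul, h3, sub_self]
      rcases smul_eq_zero.1 h4 with h5 | h5
      · exact (sub_eq_zero.1 h5).symm
      · exact absurd h5 hv0
    rw [h1 w hw]
    have := hw'.sq hN z
    rw [h1 w' hw'] at this ⊢
    exact this

/-- Conjugation of weights. -/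
theorem exists_conj_wt (hE : Ext R Z) (hN : Lift R Z M N) (g : Y) : ∃ c : R → K, (∀ x, c x * c x = 1) ∧
    ∀ w : R → K, IsWt R N w → IsWt R N (fun y => c y * w ⟨g⁻¹ * y * g, by
      have := hE.normal g⁻¹ y y.2; rwa [inv_inv] at this⟩) := by
  have hmem : ∀ y : R, g⁻¹ * y * g ∈ R := fun y => by
    have := hE.normal g⁻¹ y y.2
    rwa [inv_inv] at this
  have hex : ∀ y : R, ∃ c : K, N y * (M g : End K V) = c • ((M g : End K V) * N (g⁻¹ * y * g)) := by
    intro y
    obtain ⟨c, hc⟩ := hN.conj g _ (hmem y)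
    refine ⟨c, ?_⟩
    have h1 : g * (g⁻¹ * y * g) * g⁻¹ = (y : Y) := by group
    rw [h1] at hc
    exact hc
  choose c hc using hex
  refine ⟨c, fun y => ?_, ?_⟩
  · have h1 : N y = c y • ((M g : End K V) * N (g⁻¹ * y * g) * ((M g)⁻¹ : (End K V)ˣ)) := by
      rw [← smul_mul_assoc, ← hc]
      exact (Units.mul_inv_cancel_right _ (M g)).symm
    have h2 : ((M g : End K V) * N (g⁻¹ * y * g) * ((M g)⁻¹ : (End K V)ˣ)) *
        ((M g : End K V) * N (g⁻¹ * y * g) * ((M g)⁻¹ : (End K V)ˣ)) = 1 := by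
      have : ((M g : End K V) * N (g⁻¹ * y * g) * ((M g)⁻¹ : (End K V)ˣ)) *
        ((M g : End K V) * N (g⁻¹ * y * g) * ((M g)⁻¹ : (End K V)ˣ)) = (M g : End K V) * N (g⁻¹ * y * g) *
        ((((M g)⁻¹ : (End K V)ˣ) : End K V) * (M g : End K V)) * N (g⁻¹ * y * g) * ((M g)⁻¹ : (End K V)ˣ) := by
        noncomm_ring
      rw [this, (M g).inv_mul, mul_one, mul_assoc (M g : End K V), hN.sq _ (hmem y), mul_one, (M g).mul_inv]
    exact sq_one_of_smul (hN.sq y y.2) h2 h1
  · rintro w ⟨v, hv0, hv⟩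
    refine ⟨(M g : End K V) v, ?_, fun y => ?_⟩
    · intro h0
      have : (((M g)⁻¹ : (End K V)ˣ) : End K V) ((M g : End K V) v) = v := by
        rw [← Module.End.mul_apply, (M g).inv_mul, Module.End.one_apply]
      rw [h0, map_zero] at this
      exact hv0 this.symm
    · have h3 := hv ⟨g⁻¹ * y * g, hmem y⟩
      rw [← Module.End.mul_apply, hc, LinearMap.smul_apply, Module.End.mul_apply, h3, map_smul, smul_smul]

/-- Two different weights. -/
theorem exists_two_wt (h2 : (2 : K) ≠ 0) (hN : Lift R Z M N) (hcomm : ∀ x ∈ R, ∀ y ∈ R, N x * N y = N y * N x)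
    {x0 : R} (hx0 : ¬ ∃ c : K, N x0 = c • (1 : End K V)) : ∃ w w' : R → K, IsWt R N w ∧ IsWt R N w' ∧ w ≠ w' := by
  have hsq : ∀ x : R, N x * N x = 1 := fun x => hN.sq x x.2
  have hcomm' : ∀ x y : R, Commute (N x) (N y) := fun x y => hcomm x x.2 y y.2
  have hff : ∀ v, N x0 (N x0 v) = v := fun v => by rw [← Module.End.mul_apply, hsq, Module.End.one_apply]
  have hne1 : fixSp (N x0) ≠ ⊥ := by
    intro h
    apply hx0
    refine ⟨-1, ?_⟩
    ext v
    have h3 : v + N x0 v ∈ fixSp (N x0) := by rw [mem_fixSp, map_add, hff, add_comm]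
    rw [h, Submodule.mem_bot] at h3
    rw [LinearMap.smul_apply, Module.End.one_apply, neg_smul, one_smul]
    exact (neg_eq_of_add_eq_zero_right h3).symm
  have hne2 : fixSp (-N x0) ≠ ⊥ := by
    intro h
    apply hx0
    refine ⟨1, ?_⟩
    ext v
    have h3 : v - N x0 v ∈ fixSp (-N x0) := by
      rw [mem_fixSp, LinearMap.neg_apply, map_sub, hff, neg_sub]
    rw [h, Submodule.mem_bot, sub_eq_zero] at h3
    rw [one_smul, Module.End.one_apply]
    exact h3.symm
  have hcn : ∀ x : R, Commute (-N x0) (N x) := fun x => (hcomm' x0 x).neg_left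
  obtain ⟨v, hv, hv0, w, hw⟩ := exists_common (fun x : R => N x) hsq hcomm' _ _ rfl hne1
    (fun x v hv => mapsTo_fixSp (hcomm' x0 x) v hv)
  obtain ⟨v', hv', hv0', w', hw'⟩ := exists_common (fun x : R => N x) hsq hcomm' _ _ rfl hne2
    (fun x v hv => mapsTo_fixSp (hcn x) v hv)
  refine ⟨w, w', ⟨v, hv0, hw⟩, ⟨v', hv0', hw'⟩, ?_⟩
  rintro rfl
  have h3 : w x0 = 1 := by
    have h4 := hw x0
    rw [mem_fixSp.1 hv] at h4
    have h5 : (w x0 - 1) • v = 0 := by rw [sub_smul, ← h4, one_smul, sub_self]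
    rcases smul_eq_zero.1 h5 with h6 | h6
    · exact sub_eq_zero.1 h6
    · exact absurd h6 hv0
  have h4 : N x0 v' = w x0 • v' := hw' x0
  have h5 := mem_fixSp.1 hv'
  rw [LinearMap.neg_apply] at h5
  rw [h3, one_smul] at h4
  rw [h4] at h5
  have h6 : (2 : K) • v' = 0 := by
    rw [two_smul]
    nth_rewrite 1 [← h5]
    exact neg_add_cancel v'
  exact hv0' ((smul_eq_zero.1 h6).resolve_left h2)

/-- Every nontrivial character is a quotient of two weights. -/
theorem exists_quot (h2 : (2 : K) ≠ 0) (hE : Ext R Z) {ε : Y} (hS : Sy R Z ε) [Finite R] (hN : Lift R Z M N)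
    (hcomm : ∀ x ∈ R, ∀ y ∈ R, N x * N y = N y * N x)
    (hT : ∀ x ∈ R, x ∉ Z → ∀ y ∈ R, y ∉ Z → ∃ g : Y, g * x * g⁻¹ * y⁻¹ ∈ Z)
    {x0 : R} (hx0 : ¬ ∃ c : K, N x0 = c • (1 : End K V)) {χ : R → K} (hχ : IsChi R Z K χ) (hχ1 : χ ≠ fun _ => 1) :
    ∃ w w' : R → K, IsWt R N w ∧ IsWt R N w' ∧ w ≠ w' ∧ ∀ x, w x * w' x = χ x := by
  obtain ⟨w, w', hw, hw', hne⟩ := exists_two_wt h2 hN hcomm hx0
  have hr := isChi_of_wt hN hcomm hw hw'
  have hr1 : (fun x => w x * w' x) ≠ fun _ => (1 : K) := by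
    intro h
    apply hne
    funext x
    have h3 : w x * w' x = 1 := congrFun h x
    have h4 := hw'.sq hN x
    have h5 : (w x - w' x) * w' x = 0 := by rw [sub_mul, h3, h4, sub_self]
    rcases mul_eq_zero.1 h5 with h6 | h6
    · exact sub_eq_zero.1 h6
    · rw [h6, mul_zero] at h4
      exact absurd h4 zero_ne_one
  obtain ⟨a, ha, hra⟩ := exists_theta h2 hE hS hr
  obtain ⟨b, hb, hχb⟩ := exists_theta h2 hE hS hχ
  have hnotZ : ∀ a ∈ R, theta R K a ≠ (fun _ => (1 : K)) → a ∉ Z := by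
    intro a _ h haZ
    apply h
    funext x
    unfold theta
    rw [if_pos (hE.central a haZ x)]
  have haZ := hnotZ a ha (by rw [← hra]; exact hr1)
  have hbZ := hnotZ b hb (by rw [← hχb]; exact hχ1)
  obtain ⟨g, hg⟩ := hT a ha haZ b hb hbZ
  obtain ⟨c, hcc, hc⟩ := exists_conj_wt hE hN g
  have hmem : ∀ y : R, g⁻¹ * y * g ∈ R := fun y => by
    have := hE.normal g⁻¹ y y.2
    rwa [inv_inv] at this
  have hprod : ∀ y : R, (c y * w ⟨g⁻¹ * y * g, hmem y⟩) * (c y * w' ⟨g⁻¹ * y * g, hmem y⟩) = χ y := by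
    intro y
    have h3 : (c y * w ⟨g⁻¹ * y * g, hmem y⟩) * (c y * w' ⟨g⁻¹ * y * g, hmem y⟩) =
        w ⟨g⁻¹ * y * g, hmem y⟩ * w' ⟨g⁻¹ * y * g, hmem y⟩ := by
      calc _ = (c y * c y) * (w ⟨g⁻¹ * y * g, hmem y⟩ * w' ⟨g⁻¹ * y * g, hmem y⟩) := by ring
        _ = _ := by rw [hcc, one_mul]
    rw [h3, congrFun hra ⟨g⁻¹ * y * g, hmem y⟩, hχb]
    unfold theta
    have hiff : a * (g⁻¹ * y * g) = g⁻¹ * y * g * a ↔ b * y = y * b := by
      have e1 : a * (g⁻¹ * y * g) = g⁻¹ * y * g * a ↔ (g * a * g⁻¹) * y = y * (g * a * g⁻¹) := by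
        constructor
        · intro h
          calc (g * a * g⁻¹) * y = g * (a * (g⁻¹ * y * g)) * g⁻¹ := by group
            _ = g * (g⁻¹ * y * g * a) * g⁻¹ := by rw [h]
            _ = y * (g * a * g⁻¹) := by group
        · intro h
          calc a * (g⁻¹ * y * g) = g⁻¹ * ((g * a * g⁻¹) * y) * g := by group
            _ = g⁻¹ * (y * (g * a * g⁻¹)) * g := by rw [h]
            _ = g⁻¹ * y * g * a := by group
      rw [e1]
      obtain ⟨z, hzZ, e2⟩ : ∃ z ∈ Z, g * a * g⁻¹ = z * b := ⟨_, hg, by group⟩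
      have hz := hE.central _ hzZ
      rw [e2]
      constructor
      · intro h
        rw [mul_assoc, ← mul_assoc (y : Y) z, ← hz, mul_assoc] at h
        exact mul_left_cancel h
      · intro h
        rw [mul_assoc, h, ← mul_assoc (y : Y) z, ← hz, mul_assoc]
    by_cases h4 : b * y = y * b
    · rw [if_pos h4, if_pos (hiff.2 h4)]
    · rw [if_neg h4, if_neg (fun h => h4 (hiff.1 h))]
  refine ⟨_, _, hc w hw, hc w' hw', ?_, hprod⟩
  intro h
  apply hχ1
  funext y
  rw [← hprod y]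
  have h3 : c y * w ⟨g⁻¹ * y * g, hmem y⟩ = c y * w' ⟨g⁻¹ * y * g, hmem y⟩ := congrFun h y
  rw [h3]
  exact (hc w' hw').sq hN y

/-- Case (b): the lifts commute. -/
theorem Lift.le_choose (h2 : (2 : K) ≠ 0) (hE : Ext R Z) {ε : Y} (hS : Sy R Z ε) [Finite R] (hN : Lift R Z M N)
    (hcomm : ∀ x ∈ R, ∀ y ∈ R, N x * N y = N y * N x)
    (hT : ∀ x ∈ R, x ∉ Z → ∀ y ∈ R, y ∉ Z → ∃ g : Y, g * x * g⁻¹ * y⁻¹ ∈ Z)
    {x0 : R} (hx0 : ¬ ∃ c : K, N x0 = c • (1 : End K V)) {k : ℕ} (hcard : Nat.card R = 4 ^ k * Nat.card Z) :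
    4 ^ k - 1 ≤ (finrank K V).choose 2 := by
  classical
  have hcomm' : ∀ x y : R, Commute (N x) (N y) := fun x y => hcomm x x.2 y y.2
  have hfin := finite_Wt (fun x : R => N x) hcomm'
  have hle := card_Wt_le (fun x : R => N x) hcomm'
  have hfinχ := finite_isChi (R := R) (Z := Z) (K := K)
  let _ : Fintype (Wt (fun x : R => N x)) := Fintype.ofFinite _
  have hone : IsChi R Z K (fun _ => (1 : K)) := ⟨fun _ _ => (one_mul 1).symm, fun _ => one_mul 1, fun _ _ => rfl⟩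
  have hcardT : Nat.card {χ : {χ : R → K // IsChi R Z K χ} // χ ≠ ⟨fun _ => 1, hone⟩} = 4 ^ k - 1 := by
    rw [← card_isChi (K := K) h2 hE hS hcard]
    let _ : Fintype {χ : R → K // IsChi R Z K χ} := Fintype.ofFinite _
    rw [Nat.card_eq_fintype_card, Nat.card_eq_fintype_card]
    exact Set.card_ne_eq _
  have hex : ∀ χ : {χ : {χ : R → K // IsChi R Z K χ} // χ ≠ ⟨fun _ => 1, hone⟩},
      ∃ p : Wt (fun x : R => N x) × Wt (fun x : R => N x), p.1 ≠ p.2 ∧ ∀ x, p.1.1 x * p.2.1 x = χ.1.1 x := by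
    intro χ
    obtain ⟨w, w', hw, hw', hne, hp⟩ := exists_quot h2 hE hS hN hcomm hT hx0 χ.1.2
      (fun h => χ.2 (Subtype.ext h))
    exact ⟨(⟨w, isWt_iff.2 hw⟩, ⟨w', isWt_iff.2 hw'⟩), fun h => hne (congrArg Subtype.val h), hp⟩
  choose p hp hp' using hex
  have hinj : Function.Injective (fun χ => (⟨s((p χ).1, (p χ).2), hp χ⟩ :
      {a : Sym2 (Wt (fun x : R => N x)) // ¬ a.IsDiag})) := by
    intro χ χ' h
    have h3 := congrArg Subtype.val h
    simp only [Sym2.eq_iff] at h3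
    apply Subtype.ext
    apply Subtype.ext
    funext x
    rw [← hp' χ x, ← hp' χ' x]
    rcases h3 with ⟨h4, h5⟩ | ⟨h4, h5⟩
    · rw [h4, h5]
    · rw [h4, h5, mul_comm]
  have h3 := Nat.card_le_card_of_injective _ hinj
  rw [hcardT, Nat.card_eq_fintype_card, Sym2.card_subtype_not_diag] at h3
  refine h3.trans ?_
  rw [← Nat.card_eq_fintype_card]
  exact Nat.choose_le_choose 2 hle

/-- **LEMMA MIN**, `r = 2`, over an algebraically closed field. -/
theorem min_two_end [IsAlgClosed K] (h2 : (2 : K) ≠ 0) (hE : Ext R Z) {ε : Y} (hS : Sy R Z ε) [Finite R]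
    (hT : ∀ x ∈ R, x ∉ Z → ∀ y ∈ R, y ∉ Z → ∃ g : Y, g * x * g⁻¹ * y⁻¹ ∈ Z)
    {k : ℕ} (hcard : Nat.card R = 4 ^ k * Nat.card Z) (M : Y → (End K V)ˣ)
    (hM : ∀ x y, ∃ c : K, (M (x * y) : End K V) = c • ((M x : End K V) * (M y : End K V)))
    (hZ : ∀ z ∈ Z, ∃ c : K, (M z : End K V) = c • (1 : End K V))
    (hR : ∃ x ∈ R, ¬ ∃ c : K, (M x : End K V) = c • (1 : End K V)) :
    2 ^ k ∣ finrank K V ∨ 4 ^ k - 1 ≤ (finrank K V).choose 2 := by
  obtain ⟨N, hN⟩ := exists_lift hE M hM hZ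
  obtain ⟨x0, hx0R, hx0⟩ := hR
  have hx0' : ¬ ∃ c : K, N x0 = c • (1 : End K V) := by
    rintro ⟨c, hc⟩
    obtain ⟨d, hd0, hd⟩ := hN.prop x0 hx0R
    apply hx0
    refine ⟨d⁻¹ * c, ?_⟩
    rw [mul_smul, ← hc, hd, smul_smul, inv_mul_cancel₀ hd0, one_smul]
  by_cases hrad : ∀ x ∈ R, (∀ y ∈ R, bf N x y = 0) → x ∈ Z
  · left
    exact hN.dvd_finrank h2 hE hcard hrad
  · right
    push Not at hrad
    obtain ⟨x, hxR, hx, hxZ⟩ := hrad
    have hall : ∀ y ∈ R, ∀ t ∈ R, bf N y t = 0 := by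
      intro y hy t ht
      by_cases hyZ : y ∈ Z
      · exact hN.bf_center hyZ t
      · obtain ⟨g, hg⟩ := hT x hxR hxZ y hy hyZ
        have hmem : g⁻¹ * t * g ∈ R := by
          have := hE.normal g⁻¹ t ht
          rwa [inv_inv] at this
        have h3 := hN.bf_conj h2 hE (g := g) hxR hmem
        have h4 : g * (g⁻¹ * t * g) * g⁻¹ = t := by group
        rw [h4, hx _ hmem] at h3
        have h5 : g * x * g⁻¹ = (g * x * g⁻¹ * y⁻¹) * y := by group
        rw [h5, hN.bf_mul h2 hE (hE.le hg) hy ht, hN.bf_center hg, zero_add] at h3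
        exact h3
    have hcomm : ∀ y ∈ R, ∀ t ∈ R, N y * N t = N t * N y := by
      intro y hy t ht
      have := hN.bf_spec hE hy ht
      rw [hall y hy t ht, sg_zero, one_smul] at this
      exact this
    exact hN.le_choose h2 hE hS hcomm hT (x0 := ⟨x0, hx0R⟩) hx0' hcard

end

section Matrix

variable {Y : Type w} [Group Y] {R Z : Subgroup Y} {K : Type u} [Field K] {ι : Type v} [Fintype ι] [DecidableEq ι]

/-- **LEMMA MIN**, `r = 2`: a projective representation of `Y` of degree `n = |ι|` which is scalar on `Z` and not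
scalar on `R` has `2 ^ k ∣ n` or `4 ^ k - 1 ≤ n (n - 1) / 2`. -/
theorem min_two (h2 : (2 : K) ≠ 0) (hE : Ext R Z) {ε : Y} (hS : Sy R Z ε) [Finite R]
    (hT : ∀ x ∈ R, x ∉ Z → ∀ y ∈ R, y ∉ Z → ∃ g : Y, g * x * g⁻¹ * y⁻¹ ∈ Z)
    {k : ℕ} (hcard : Nat.card R = 4 ^ k * Nat.card Z) (M : Y → Matrix.GeneralLinearGroup ι K)
    (hM : ∀ x y, ∃ c : K, (M (x * y) : Matrix ι ι K) = c • ((M x : Matrix ι ι K) * (M y : Matrix ι ι K)))
    (hZ : ∀ z ∈ Z, ∃ c : K, (M z : Matrix ι ι K) = c • (1 : Matrix ι ι K))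
    (hR : ∃ x ∈ R, ¬ ∃ c : K, (M x : Matrix ι ι K) = c • (1 : Matrix ι ι K)) :
    2 ^ k ∣ Fintype.card ι ∨ 4 ^ k - 1 ≤ (Fintype.card ι).choose 2 := by
  classical
  obtain ⟨x0, hx0R, hx0⟩ := hR
  rcases isEmpty_or_nonempty ι with hι | ⟨⟨i0⟩⟩
  · exact absurd ⟨0, by ext i; exact hι.elim i⟩ hx0
  · have : Nontrivial (ι → AlgebraicClosure K) := ⟨⟨fun _ => 0, fun _ => 1, fun h => zero_ne_one (congrFun h i0)⟩⟩
    set f := algebraMap K (AlgebraicClosure K) with hf
    have hfinj : Function.Injective f := f.injective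
    have h2' : (2 : AlgebraicClosure K) ≠ 0 := by
      intro h
      apply h2
      apply hfinj
      rw [map_zero, map_ofNat]
      exact h
    let φ : Matrix ι ι K →* End (AlgebraicClosure K) (ι → AlgebraicClosure K) :=
      ((Matrix.toLinAlgEquiv' : Matrix ι ι (AlgebraicClosure K) ≃ₐ[AlgebraicClosure K] _) : _ →* _).comp
        (f.mapMatrix (m := ι)).toMonoidHom
    have hφ : ∀ A : Matrix ι ι K, φ A = Matrix.toLinAlgEquiv' (A.map f) := fun A => rfl
    have hφs : ∀ (c : K) (A : Matrix ι ι K), φ (c • A) = f c • φ A := by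
      intro c A
      rw [hφ, hφ, ← map_smul]
      congr 1
      ext i j
      simp
    have hφ1 : ∀ A : Matrix ι ι K, (∃ c : AlgebraicClosure K, φ A = c • 1) → ∃ c : K, A = c • (1 : Matrix ι ι K) := by
      rintro A ⟨c, hc⟩
      have h3 : A.map f = c • (1 : Matrix ι ι (AlgebraicClosure K)) := by
        apply (Matrix.toLinAlgEquiv' : Matrix ι ι (AlgebraicClosure K) ≃ₐ[AlgebraicClosure K] _).injective
        rw [← hφ, hc, map_smul, map_one]
      have h4 : ∀ i j, f (A i j) = c * (1 : Matrix ι ι (AlgebraicClosure K)) i j := by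
        intro i j
        have := congrFun (congrFun h3 i) j
        rw [Matrix.map_apply, Matrix.smul_apply, smul_eq_mul] at this
        exact this
      refine ⟨A i0 i0, ?_⟩
      ext i j
      rw [Matrix.smul_apply, smul_eq_mul]
      apply hfinj
      rw [map_mul, h4 i j, h4 i0 i0, Matrix.one_apply_eq, mul_one]
      by_cases hij : i = j
      · subst hij
        rw [Matrix.one_apply_eq, Matrix.one_apply_eq, map_one]
      · rw [Matrix.one_apply_ne hij, Matrix.one_apply_ne hij, map_zero]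
    have key := min_two_end (K := AlgebraicClosure K) (V := ι → AlgebraicClosure K) h2' hE hS hT hcard
      (fun y => Units.map φ (M y)) (fun x y => by
        obtain ⟨c, hc⟩ := hM x y
        refine ⟨f c, ?_⟩
        rw [Units.coe_map, Units.coe_map, Units.coe_map, hc, hφs, map_mul])
      (fun z hz => by
        obtain ⟨c, hc⟩ := hZ z hz
        refine ⟨f c, ?_⟩
        rw [Units.coe_map, hc, hφs, map_one])
      ⟨x0, hx0R, fun h => hx0 (hφ1 _ h)⟩
    rwa [Module.finrank_fintype_fun_eq_card] at key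

/-- The case `k = 3`. -/
theorem min_eight (h2 : (2 : K) ≠ 0) (hE : Ext R Z) {ε : Y} (hS : Sy R Z ε) [Finite R]
    (hT : ∀ x ∈ R, x ∉ Z → ∀ y ∈ R, y ∉ Z → ∃ g : Y, g * x * g⁻¹ * y⁻¹ ∈ Z)
    (hcard : Nat.card R = 64 * Nat.card Z) (M : Y → Matrix.GeneralLinearGroup ι K)
    (hM : ∀ x y, ∃ c : K, (M (x * y) : Matrix ι ι K) = c • ((M x : Matrix ι ι K) * (M y : Matrix ι ι K)))
    (hZ : ∀ z ∈ Z, ∃ c : K, (M z : Matrix ι ι K) = c • (1 : Matrix ι ι K))
    (hR : ∃ x ∈ R, ¬ ∃ c : K, (M x : Matrix ι ι K) = c • (1 : Matrix ι ι K)) :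
    8 ∣ Fintype.card ι ∨ 12 ≤ Fintype.card ι := by
  have h := min_two (k := 3) h2 hE hS hT (by rw [hcard]; norm_num) M hM hZ hR
  rcases h with h | h
  · left
    simpa using h
  · right
    by_contra hlt
    push Not at hlt
    have h3 := h.trans (Nat.choose_le_choose 2 (Nat.le_of_lt_succ hlt))
    have h4 : Nat.choose 11 2 = 55 := by decide
    omega

end Matrix

end Cfsg.Agent.H918.Min
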