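import Cfsg.Agent.H918.MinWeights

/-!
# Sign characters of `R / Z`
-/

set_option autoImplicit false
set_option linter.unusedSectionVars false

namespace Cfsg.Agent.H918.Min

open Module

universe u v w

variable {Y : Type w} [Group Y] {R Z : Subgroup Y}

/-- Sign characters of `R` trivial on `Z`. -/
structure IsChi (R Z : Subgroup Y) (K : Type u) [Field K] (χ : R → K) : Prop where
  mul : ∀ x y, χ (x * y) = χ x * χ y
  sq : ∀ x, χ x * χ x = 1
  triv : ∀ z : R, (z : Y) ∈ Z → χ z = 1

variable {K : Type u} [Field K]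

theorem IsChi.one {χ : R → K} (h : IsChi R Z K χ) : χ 1 = 1 := by
  have h1 := h.mul 1 1
  rw [mul_one, h.sq] at h1
  exact h1

theorem IsChi.ne_zero {χ : R → K} (h : IsChi R Z K χ) (x : R) : χ x ≠ 0 := by
  intro h0
  have := h.sq x
  rw [h0, mul_zero] at this
  exact zero_ne_one this

theorem IsChi.eq_or {χ : R → K} (h : IsChi R Z K χ) (x : R) : χ x = 1 ∨ χ x = -1 :=
  mul_self_eq_one_iff.1 (h.sq x)

/-- the hom attached to a character -/
def IsChi.hom {χ : R → K} (h : IsChi R Z K χ) : R →* Kˣ where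
  toFun x := Units.mk0 (χ x) (h.ne_zero x)
  map_one' := Units.ext (by simpa using h.one)
  map_mul' x y := Units.ext (by simpa using h.mul x y)

theorem IsChi.coe_hom {χ : R → K} (h : IsChi R Z K χ) (x : R) : (h.hom x : K) = χ x := rfl

theorem normal_subgroupOf (hE : Ext R Z) : (Z.subgroupOf R).Normal := by
  refine ⟨fun z hz g => ?_⟩
  rw [Subgroup.mem_subgroupOf] at hz ⊢
  have h1 : ((g * z * g⁻¹ : R) : Y) = (z : Y) := by
    rw [Subgroup.coe_mul, Subgroup.coe_mul, Subgroup.coe_inv, ← hE.central _ hz, mul_assoc, mul_inv_cancel, mul_one]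
  rw [h1]
  exact hz

/-- There are at most `|R / Z|` characters. -/
theorem finite_isChi [Finite R] : Finite {χ : R → K // IsChi R Z K χ} := by
  classical
  have hf : Finite {a : K // a = 1 ∨ a = -1} := by
    have : ({a : K | a = 1 ∨ a = -1} : Set K) ⊆ {1, -1} := by
      rintro a (h | h)
      · exact Or.inl h
      · exact Or.inr h
    exact (Set.toFinite ({1, -1} : Set K)).subset this
  refine Finite.of_injective (β := R → {a : K // a = 1 ∨ a = -1}) (fun χ x => ⟨χ.1 x, χ.2.eq_or x⟩) ?_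
  intro χ χ' h
  apply Subtype.ext
  funext x
  exact congrArg Subtype.val (congrFun h x)

theorem card_isChi_le (h2 : (2 : K) ≠ 0) (hE : Ext R Z) [Finite R] :
    Nat.card {χ : R → K // IsChi R Z K χ} ≤ Nat.card (R ⧸ Z.subgroupOf R) := by
  classical
  have hnorm : (Z.subgroupOf R).Normal := normal_subgroupOf hE
  let _ : CommGroup (R ⧸ Z.subgroupOf R) :=
    { (inferInstance : Group (R ⧸ Z.subgroupOf R)) with
      mul_comm := by
        intro a b
        obtain ⟨x, rfl⟩ := QuotientGroup.mk_surjective a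
        obtain ⟨y, rfl⟩ := QuotientGroup.mk_surjective b
        rw [← QuotientGroup.mk_mul, ← QuotientGroup.mk_mul, eq_comm, QuotientGroup.eq, Subgroup.mem_subgroupOf]
        have h1 : (((y * x)⁻¹ * (x * y) : R) : Y) = (x : Y)⁻¹ * (y : Y)⁻¹ * ((x : Y)⁻¹)⁻¹ * ((y : Y)⁻¹)⁻¹ := by
          push_cast
          group
        rw [h1]
        exact hE.comm _ (R.inv_mem x.2) _ (R.inv_mem y.2) }
  have hexp : Monoid.exponent (R ⧸ Z.subgroupOf R) ∣ 2 := by
    apply Monoid.exponent_dvd_of_forall_pow_eq_one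
    intro a
    obtain ⟨x, rfl⟩ := QuotientGroup.mk_surjective a
    rw [pow_two, ← QuotientGroup.mk_mul, QuotientGroup.eq_one_iff, Subgroup.mem_subgroupOf]
    exact hE.sq _ x.2
  have : HasEnoughRootsOfUnity K 2 := by
    refine ⟨⟨-1, ?_⟩, rootsOfUnity.isCyclic K 2⟩
    apply IsPrimitiveRoot.neg_one (ringChar K)
    intro h3
    apply h2
    have := ringChar.spec K 2
    exact_mod_cast this.2 (by rw [h3])
  have : HasEnoughRootsOfUnity K (Monoid.exponent (R ⧸ Z.subgroupOf R)) := HasEnoughRootsOfUnity.of_dvd K hexp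
  have hcard := CommGroup.card_monoidHom_of_hasEnoughRootsOfUnity (R ⧸ Z.subgroupOf R) K
  rw [← hcard]
  have : Finite ((R ⧸ Z.subgroupOf R) →* Kˣ) := by
    apply Nat.finite_of_card_ne_zero
    rw [hcard]
    exact Nat.card_pos.ne'
  refine Nat.card_le_card_of_injective (fun χ => QuotientGroup.lift (Z.subgroupOf R) χ.2.hom (fun z hz => by
    apply Units.ext
    rw [IsChi.coe_hom, χ.2.triv z (Subgroup.mem_subgroupOf.1 hz)]
    rfl)) ?_
  intro χ χ' h
  apply Subtype.ext
  funext x
  have h1 := congrArg (fun φ : (R ⧸ Z.subgroupOf R) →* Kˣ => ((φ (x : R ⧸ Z.subgroupOf R) : Kˣ) : K)) h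
  exact h1

/-- The data of a group of symplectic type: one nontrivial commutator, centre `Z`. -/
structure Sy (R Z : Subgroup Y) (ε : Y) : Prop where
  comm : ∀ x ∈ R, ∀ y ∈ R, x * y = y * x ∨ x * y = ε * (y * x)
  cen : ∀ x ∈ R, (∀ y ∈ R, x * y = y * x) → x ∈ Z

open Classical in
/-- the character attached to an element -/
noncomputable def theta (R : Subgroup Y) (K : Type u) [Field K] (a : Y) (x : R) : K := if a * x = x * a then 1 else -1

theorem isChi_theta (h2 : (2 : K) ≠ 0) (hE : Ext R Z) {ε : Y} (hS : Sy R Z ε) {a : Y} (ha : a ∈ R) :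
    IsChi R Z K (theta R K a) := by
  have hneg : (-1 : K) * -1 = 1 := by rw [neg_mul_neg, one_mul]
  -- ε is central whenever it occurs
  have hε : ∀ x ∈ R, ∀ y ∈ R, x * y ≠ y * x → x * y = ε * (y * x) ∧ ∀ g, ε * g = g * ε := by
    intro x hx y hy hxy
    have h1 := (hS.comm x hx y hy).resolve_left hxy
    have h3 : ε = x * y * x⁻¹ * y⁻¹ := by rw [h1]; group
    exact ⟨h1, fun g => by rw [h3]; exact hE.central _ (hE.comm x hx y hy) g⟩
  have hεε : ∀ x ∈ R, ∀ y ∈ R, x * y ≠ y * x → ε * ε = 1 := by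
    intro x hx y hy hxy
    obtain ⟨h1, hc⟩ := hε x hx y hy hxy
    have h3 : (x * x) * y = y * (x * x) := hE.central _ (hE.sq x hx) y
    have h4 : (x * x) * y = ε * ε * (y * (x * x)) := by
      calc (x * x) * y = x * (x * y) := by group
        _ = x * (ε * (y * x)) := by rw [h1]
        _ = ε * (x * y) * x := by rw [← mul_assoc x ε, ← hc x]; group
        _ = ε * (ε * (y * x)) * x := by rw [h1]
        _ = ε * ε * (y * (x * x)) := by group
    rw [h3] at h4
    exact (mul_eq_right.1 h4.symm)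
  refine ⟨fun x y => ?_, fun x => ?_, fun z hz => ?_⟩
  · have hxy : ((x * y : R) : Y) = (x : Y) * y := rfl
    unfold theta
    rw [hxy]
    by_cases h1 : a * x = x * a
    · by_cases h3 : a * y = y * a
      · rw [if_pos h1, if_pos h3, if_pos, one_mul]
        rw [← mul_assoc, h1, mul_assoc, h3, mul_assoc]
      · rw [if_pos h1, if_neg h3, if_neg, one_mul]
        intro h4
        rw [← mul_assoc, h1, mul_assoc, mul_assoc] at h4
        exact h3 (mul_left_cancel h4)
    · obtain ⟨h1', hc⟩ := hε a ha x x.2 h1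
      have hee := hεε a ha x x.2 h1
      by_cases h3 : a * y = y * a
      · rw [if_neg h1, if_pos h3, if_neg, mul_one]
        intro h4
        rw [← mul_assoc, mul_assoc (x : Y) y a, ← h3, ← mul_assoc (x : Y)] at h4
        exact h1 (mul_right_cancel h4)
      · rw [if_neg h1, if_neg h3, if_pos, hneg]
        obtain ⟨h3', -⟩ := hε a ha y y.2 h3
        calc a * (x * y) = (a * x) * y := by group
          _ = ε * (x * (a * y)) := by rw [h1']; group
          _ = ε * (x * (ε * (y * a))) := by rw [h3']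
          _ = (ε * ε) * (x * (y * a)) := by
              rw [← mul_assoc (x : Y) ε, ← hc]; group
          _ = x * y * a := by rw [hee, one_mul, mul_assoc]
  · unfold theta
    by_cases h1 : a * x = x * a
    · rw [if_pos h1, one_mul]
    · rw [if_neg h1, hneg]
  · unfold theta
    rw [if_pos (hE.central _ hz a).symm]

theorem theta_injective (h2 : (2 : K) ≠ 0) (hE : Ext R Z) {ε : Y} (hS : Sy R Z ε) {a b : Y} (ha : a ∈ R) (hb : b ∈ R)
    (h : theta R K a = theta R K b) : a * b⁻¹ ∈ Z := by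
  have h3 : (1 : K) ≠ -1 := by
    intro h4
    apply h2
    rw [← one_add_one_eq_two]
    nth_rewrite 1 [h4]
    exact neg_add_cancel 1
  apply hS.cen _ (R.mul_mem ha (R.inv_mem hb))
  intro y hy
  have h1 := congrFun h ⟨y, hy⟩
  unfold theta at h1
  simp only [] at h1
  have key : a * y * a⁻¹ = b * y * b⁻¹ := by
    by_cases h4 : a * y = y * a
    · have h5 : b * y = y * b := by
        by_contra h5
        rw [if_pos h4, if_neg h5] at h1
        exact h3 h1
      rw [h4, h5]
      group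
    · have h5 : b * y ≠ y * b := by
        intro h5
        rw [if_neg h4, if_pos h5] at h1
        exact h3 h1.symm
      rw [(hS.comm a ha y hy).resolve_left h4, (hS.comm b hb y hy).resolve_left h5]
      group
  -- conjugation by `b⁻¹` and `a` agree up to centre: use that `a y a⁻¹ = b y b⁻¹`
  have h6 : b⁻¹ * a * y = y * (b⁻¹ * a) := by
    have : b⁻¹ * (a * y * a⁻¹) * a = b⁻¹ * (b * y * b⁻¹) * a := by rw [key]
    calc b⁻¹ * a * y = b⁻¹ * (a * y * a⁻¹) * a := by group
      _ = b⁻¹ * (b * y * b⁻¹) * a := this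
      _ = y * (b⁻¹ * a) := by group
  -- `a b⁻¹ = b⁻¹ a · z`
  obtain ⟨z, hz, hz'⟩ : ∃ z ∈ Z, a * b⁻¹ = z * (b⁻¹ * a) :=
    ⟨a * b⁻¹ * a⁻¹ * (b⁻¹)⁻¹, hE.comm a ha b⁻¹ (R.inv_mem hb), by group⟩
  rw [hz', mul_assoc, h6, ← mul_assoc, hE.central z hz, mul_assoc]

/-- Every character is a `theta`. -/
theorem exists_theta (h2 : (2 : K) ≠ 0) (hE : Ext R Z) {ε : Y} (hS : Sy R Z ε) [Finite R] {χ : R → K}
    (hχ : IsChi R Z K χ) : ∃ a ∈ R, χ = theta R K a := by
  classical
  have := finite_isChi (R := R) (Z := Z) (K := K)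
  let f : R ⧸ Z.subgroupOf R → {χ : R → K // IsChi R Z K χ} :=
    fun q => ⟨theta R K (q.out : Y), isChi_theta h2 hE hS q.out.2⟩
  have hf : Function.Injective f := by
    intro p q hpq
    have h1 := theta_injective h2 hE hS p.out.2 q.out.2 (congrArg Subtype.val hpq)
    have h3 : ((p.out : R) : R ⧸ Z.subgroupOf R) = (q.out : R) := by
      rw [eq_comm, QuotientGroup.eq, Subgroup.mem_subgroupOf]
      have h4 : (((q.out : R)⁻¹ * (p.out : R) : R) : Y) =
          (q.out : Y)⁻¹ * ((p.out : Y) * (q.out : Y)⁻¹) * (q.out : Y) := by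
        push_cast
        group
      rw [h4]
      have h5 := hE.central _ h1 (q.out : Y)
      rw [mul_assoc, h5, inv_mul_cancel_left]
      exact h1
    rwa [QuotientGroup.out_eq', QuotientGroup.out_eq'] at h3
  have hle := card_isChi_le (K := K) h2 hE (R := R) (Z := Z)
  have hbij : Function.Bijective f := by
    rw [Nat.bijective_iff_injective_and_card]
    exact ⟨hf, le_antisymm (Nat.card_le_card_of_injective f hf) hle⟩
  obtain ⟨q, hq⟩ := hbij.2 ⟨χ, hχ⟩
  exact ⟨q.out, q.out.2, (congrArg Subtype.val hq).symm⟩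

theorem card_isChi (h2 : (2 : K) ≠ 0) (hE : Ext R Z) {ε : Y} (hS : Sy R Z ε) [Finite R] {k : ℕ}
    (hcard : Nat.card R = 4 ^ k * Nat.card Z) : Nat.card {χ : R → K // IsChi R Z K χ} = 4 ^ k := by
  classical
  have := finite_isChi (R := R) (Z := Z) (K := K)
  have : Finite Z := Finite.of_injective (Subgroup.inclusion hE.le) (Subgroup.inclusion_injective _)
  have h1 : Nat.card (R ⧸ Z.subgroupOf R) = 4 ^ k := by
    have h3 := Subgroup.card_eq_card_quotient_mul_card_subgroup (Z.subgroupOf R)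
    rw [Nat.card_congr (Subgroup.subgroupOfEquivOfLe hE.le).toEquiv, hcard] at h3
    exact (Nat.eq_of_mul_eq_mul_right Nat.card_pos h3).symm
  refine le_antisymm ((card_isChi_le h2 hE).trans h1.le) ?_
  rw [← h1]
  refine Nat.card_le_card_of_injective (fun q => ⟨theta R K (q.out : Y), isChi_theta h2 hE hS q.out.2⟩) ?_
  intro p q hpq
  have h1 := theta_injective h2 hE hS p.out.2 q.out.2 (congrArg Subtype.val hpq)
  have h3 : ((p.out : R) : R ⧸ Z.subgroupOf R) = (q.out : R) := by
    rw [eq_comm, QuotientGroup.eq, Subgroup.mem_subgroupOf]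
    have h4 : (((q.out : R)⁻¹ * (p.out : R) : R) : Y) =
        (q.out : Y)⁻¹ * ((p.out : Y) * (q.out : Y)⁻¹) * (q.out : Y) := by
      push_cast
      group
    rw [h4]
    have h5 := hE.central _ h1 (q.out : Y)
    rw [mul_assoc, h5, inv_mul_cancel_left]
    exact h1
  rwa [QuotientGroup.out_eq', QuotientGroup.out_eq'] at h3

end Cfsg.Agent.H918.Min
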