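import Cfsg.Agent.H918.MinTwo

/-!
# Hyperbolic pairs for a multiplicative form with values in `ZMod 2`
-/

set_option autoImplicit false
set_option linter.unusedSectionVars false

namespace Cfsg.Agent.H918.Min

open Module

universe u v w

variable {Y : Type w} [Group Y] {R Z : Subgroup Y}

/-- A bimultiplicative alternating form on `R / Z`. -/
structure AltForm (R Z : Subgroup Y) (b : Y → Y → ZMod 2) : Prop where
  mul : ∀ x ∈ R, ∀ y ∈ R, ∀ w ∈ R, b (x * y) w = b x w + b y w
  symm : ∀ x y, b x y = b y x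
  self : ∀ x, b x x = 0
  center : ∀ z ∈ Z, ∀ y, b z y = 0

variable {b : Y → Y → ZMod 2}

theorem AltForm.one (h : AltForm R Z b) {w : Y} (hw : w ∈ R) : b 1 w = 0 := by
  have := h.mul 1 R.one_mem 1 R.one_mem w hw
  rw [mul_one] at this
  exact left_eq_add.1 this

theorem AltForm.inv (h : AltForm R Z b) {x w : Y} (hx : x ∈ R) (hw : w ∈ R) : b x⁻¹ w = b x w := by
  have := h.mul x⁻¹ (R.inv_mem hx) x hx w hw
  rw [inv_mul_cancel, h.one hw] at this
  have h2 : ∀ a c : ZMod 2, 0 = a + c → a = c := by decide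
  exact h2 _ _ this

/-- the perp of a pair -/
def perpPair (h : AltForm R Z b) (S : Subgroup Y) (hS : S ≤ R) {x y : Y} (hx : x ∈ R) (hy : y ∈ R) : Subgroup Y where
  carrier := {s | s ∈ S ∧ b s x = 0 ∧ b s y = 0}
  one_mem' := ⟨S.one_mem, h.one hx, h.one hy⟩
  mul_mem' := by
    rintro s t ⟨hs, hs1, hs2⟩ ⟨ht, ht1, ht2⟩
    refine ⟨S.mul_mem hs ht, ?_, ?_⟩
    · rw [h.mul s (hS hs) t (hS ht) x hx, hs1, ht1, add_zero]
    · rw [h.mul s (hS hs) t (hS ht) y hy, hs2, ht2, add_zero]
  inv_mem' := by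
    rintro s ⟨hs, hs1, hs2⟩
    exact ⟨S.inv_mem hs, by rw [h.inv (hS hs) hx, hs1], by rw [h.inv (hS hs) hy, hs2]⟩

theorem mem_perpPair {h : AltForm R Z b} {S : Subgroup Y} {hS : S ≤ R} {x y : Y} {hx : x ∈ R} {hy : y ∈ R} {s : Y} :
    s ∈ perpPair h S hS hx hy ↔ s ∈ S ∧ b s x = 0 ∧ b s y = 0 := Iff.rfl

theorem exists_value (h : AltForm R Z b) {S : Subgroup Y} (hS : S ≤ R) {x y : Y} (hx : x ∈ S) (hy : y ∈ S)
    (hxy : b x y = 1) (α γ : ZMod 2) : ∃ u ∈ S, b u x = α ∧ b u y = γ ∧
      ∀ s ∈ R, b s x = 0 → b s y = 0 → b s u = 0 := by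
  have hyx : b y x = 1 := by rw [h.symm, hxy]
  rcases zmod_two α with rfl | rfl <;> rcases zmod_two γ with rfl | rfl
  · exact ⟨1, S.one_mem, h.one (hS hx), h.one (hS hy), fun s hs _ _ => by rw [h.symm, h.one hs]⟩
  · exact ⟨x, hx, h.self x, hxy, fun s hs h1 _ => h1⟩
  · exact ⟨y, hy, hyx, h.self y, fun s hs _ h2 => h2⟩
  · refine ⟨x * y, S.mul_mem hx hy, ?_, ?_, fun s hs h1 h2 => ?_⟩
    · rw [h.mul x (hS hx) y (hS hy) x (hS hx), h.self, hyx, zero_add]
    · rw [h.mul x (hS hx) y (hS hy) y (hS hy), h.self, hxy, add_zero]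
    · rw [h.symm, h.mul x (hS hx) y (hS hy) s hs, h.symm x s, h.symm y s, h1, h2, add_zero]

theorem card_perpPair (h : AltForm R Z b) {S : Subgroup Y} (hS : S ≤ R) {x y : Y} (hx : x ∈ S) (hy : y ∈ S)
    (hxy : b x y = 1) : Nat.card S = 4 * Nat.card (perpPair h S hS (hS hx) (hS hy)) := by
  let f : S →* Multiplicative (ZMod 2 × ZMod 2) := MonoidHom.mk' (fun s => Multiplicative.ofAdd (b s x, b s y)) (by
    intro s t
    rw [← ofAdd_add, Prod.mk_add_mk, Subgroup.coe_mul, h.mul _ (hS s.2) _ (hS t.2) x (hS hx),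
      h.mul _ (hS s.2) _ (hS t.2) y (hS hy)])
  have hf : ∀ s : S, f s = Multiplicative.ofAdd (b s x, b s y) := fun s => rfl
  have hsurj : Function.Surjective f := by
    intro p
    obtain ⟨u, hu, h1, h2, -⟩ := exists_value h hS hx hy hxy (Multiplicative.toAdd p).1 (Multiplicative.toAdd p).2
    refine ⟨⟨u, hu⟩, ?_⟩
    rw [hf, h1, h2]
    rfl
  have hker : f.ker = (perpPair h S hS (hS hx) (hS hy)).subgroupOf S := by
    ext s
    rw [MonoidHom.mem_ker, Subgroup.mem_subgroupOf, mem_perpPair, hf]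
    constructor
    · intro h1
      have h2 : (b s x, b s y) = (0, 0) := Multiplicative.ofAdd.injective h1
      exact ⟨s.2, (Prod.mk.inj h2).1, (Prod.mk.inj h2).2⟩
    · rintro ⟨-, h1, h2⟩
      rw [h1, h2]
      rfl
  have hle : perpPair h S hS (hS hx) (hS hy) ≤ S := fun s hs => (mem_perpPair.1 hs).1
  have h1 : Nat.card f.ker = Nat.card (perpPair h S hS (hS hx) (hS hy)) := by
    rw [hker]
    exact Nat.card_congr (Subgroup.subgroupOfEquivOfLe hle).toEquiv
  have h2 : f.ker.index = 4 := by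
    rw [Subgroup.index_ker, MonoidHom.range_eq_top.2 hsurj, Subgroup.card_top]
    simp [Nat.card_eq_fintype_card]
  rw [← Subgroup.card_mul_index f.ker, h1, h2, mul_comm]

/-- **Hyperbolic pairs.** -/
theorem exists_pairs (h : AltForm R Z b) [Finite R] : ∀ (n : ℕ) (S : Subgroup Y), Nat.card S = n → S ≤ R → Z ≤ S →
    (∀ x ∈ S, (∀ y ∈ S, b x y = 0) → x ∈ Z) →
    ∃ (m : ℕ) (x y : Fin m → Y), (∀ i, x i ∈ S) ∧ (∀ i, y i ∈ S) ∧ (∀ i, b (x i) (y i) = 1) ∧
      (∀ i j, i ≠ j → b (x i) (x j) = 0) ∧ (∀ i j, i ≠ j → b (x i) (y j) = 0) ∧ (∀ i j, i ≠ j → b (y i) (y j) = 0) ∧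
      Nat.card S = 4 ^ m * Nat.card Z := by
  intro n
  induction n using Nat.strong_induction_on with
  | _ n ih =>
    intro S hn hSR hZS hrad
    by_cases hSZ : S ≤ Z
    · refine ⟨0, Fin.elim0, Fin.elim0, fun i => i.elim0, fun i => i.elim0, fun i => i.elim0, fun i => i.elim0,
        fun i => i.elim0, fun i => i.elim0, ?_⟩
      rw [le_antisymm hSZ hZS, pow_zero, one_mul]
    · obtain ⟨x, hxS, hxZ⟩ := SetLike.not_le_iff_exists.1 hSZ
      obtain ⟨y, hyS, hxy⟩ : ∃ y ∈ S, b x y ≠ 0 := by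
        by_contra hcon
        push Not at hcon
        exact hxZ (hrad x hxS hcon)
      have hxy1 : b x y = 1 := (zmod_two _).resolve_left hxy
      set S' := perpPair h S hSR (hSR hxS) (hSR hyS) with hS'
      have hS'S : S' ≤ S := fun s hs => (mem_perpPair.1 hs).1
      have hcard := card_perpPair h hSR hxS hyS hxy1
      rw [← hS'] at hcard
      have : Finite S' := Finite.of_injective (Subgroup.inclusion (hS'S.trans hSR))
        (Subgroup.inclusion_injective _)
      have hpos : 0 < Nat.card S' := Nat.card_pos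
      have hZS' : Z ≤ S' := fun z hz => mem_perpPair.2 ⟨hZS hz, h.center z hz x, h.center z hz y⟩
      have hrad' : ∀ s ∈ S', (∀ t ∈ S', b s t = 0) → s ∈ Z := by
        intro s hs hst
        obtain ⟨hsS, hsx, hsy⟩ := mem_perpPair.1 hs
        refine hrad s hsS fun t ht => ?_
        obtain ⟨u, huS, hux, huy, hu⟩ := exists_value h hSR hxS hyS hxy1 (b t x) (b t y)
        have h22 : ∀ a : ZMod 2, a + a = 0 := by decide
        have h1 : t * u ∈ S' := mem_perpPair.2 ⟨S.mul_mem ht huS, by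
          rw [h.mul t (hSR ht) u (hSR huS) x (hSR hxS), hux, h22], by
          rw [h.mul t (hSR ht) u (hSR huS) y (hSR hyS), huy, h22]⟩
        have h2 := hst _ h1
        rw [h.symm, h.mul t (hSR ht) u (hSR huS) s (hSR hsS), h.symm u s, hu s (hSR hsS) hsx hsy, add_zero, h.symm] at h2
        exact h2
      obtain ⟨m, a, c, ha, hc, hac, haa, hac', hcc, hm⟩ := ih (Nat.card S') (by omega) S' rfl (hS'S.trans hSR) hZS' hrad'
      have hax : ∀ i, b (a i) x = 0 := fun i => (mem_perpPair.1 (ha i)).2.1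
      have hay : ∀ i, b (a i) y = 0 := fun i => (mem_perpPair.1 (ha i)).2.2
      have hcx : ∀ i, b (c i) x = 0 := fun i => (mem_perpPair.1 (hc i)).2.1
      have hcy : ∀ i, b (c i) y = 0 := fun i => (mem_perpPair.1 (hc i)).2.2
      refine ⟨m + 1, Fin.cons x a, Fin.cons y c, ?_, ?_, ?_, ?_, ?_, ?_, ?_⟩
      · intro i
        refine Fin.cases ?_ (fun i => ?_) i
        · exact hxS
        · exact hS'S (ha i)
      · intro i
        refine Fin.cases ?_ (fun i => ?_) i
        · exact hyS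
        · exact hS'S (hc i)
      · intro i
        refine Fin.cases ?_ (fun i => ?_) i
        · exact hxy1
        · exact hac i
      · intro i j
        refine Fin.cases ?_ (fun i => ?_) i <;> refine Fin.cases ?_ (fun j => ?_) j
        · intro h; exact absurd rfl h
        · intro _
          rw [Fin.cons_zero, Fin.cons_succ, h.symm, hax]
        · intro _
          rw [Fin.cons_zero, Fin.cons_succ, hax]
        · intro hij
          rw [Fin.cons_succ, Fin.cons_succ, haa i j (fun h => hij (by rw [h]))]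
      · intro i j
        refine Fin.cases ?_ (fun i => ?_) i <;> refine Fin.cases ?_ (fun j => ?_) j
        · intro h; exact absurd rfl h
        · intro _
          rw [Fin.cons_zero, Fin.cons_succ, h.symm, hcx]
        · intro _
          rw [Fin.cons_zero, Fin.cons_succ, hay]
        · intro hij
          rw [Fin.cons_succ, Fin.cons_succ, hac' i j (fun h => hij (by rw [h]))]
      · intro i j
        refine Fin.cases ?_ (fun i => ?_) i <;> refine Fin.cases ?_ (fun j => ?_) j
        · intro h; exact absurd rfl h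
        · intro _
          rw [Fin.cons_zero, Fin.cons_succ, h.symm, hcy]
        · intro _
          rw [Fin.cons_zero, Fin.cons_succ, hcy]
        · intro hij
          rw [Fin.cons_succ, Fin.cons_succ, hcc i j (fun h => hij (by rw [h]))]
      · rw [hcard, hm, pow_succ]
        ring

variable {K : Type u} [Field K] {V : Type v} [AddCommGroup V] [Module K V] [Nontrivial V]
  {M : Y → (End K V)ˣ} {N : Y → End K V}

theorem Lift.altForm (h2 : (2 : K) ≠ 0) (hE : Ext R Z) (hN : Lift R Z M N) : AltForm R Z (bf N) where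
  mul _ hx _ hy _ hw := hN.bf_mul h2 hE hx hy hw
  symm := bf_symm N
  self := bf_self N
  center _ hz y := hN.bf_center hz y

/-- Case (a): the commutation form is nondegenerate. -/
theorem Lift.dvd_finrank [FiniteDimensional K V] (h2 : (2 : K) ≠ 0) (hE : Ext R Z) (hN : Lift R Z M N) [Finite R]
    {k : ℕ} (hcard : Nat.card R = 4 ^ k * Nat.card Z)
    (hrad : ∀ x ∈ R, (∀ y ∈ R, bf N x y = 0) → x ∈ Z) : 2 ^ k ∣ finrank K V := by
  obtain ⟨m, x, y, hx, hy, hxy, hxx, hxy', hyy, hm⟩ :=
    exists_pairs (hN.altForm h2 hE) (Nat.card R) R rfl le_rfl hE.le hrad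
  have : Finite Z := Finite.of_injective (Subgroup.inclusion hE.le) (Subgroup.inclusion_injective _)
  have hmk : m = k := by
    have h3 : 4 ^ m * Nat.card Z = 4 ^ k * Nat.card Z := by rw [← hm, hcard]
    have h4 := Nat.eq_of_mul_eq_mul_right Nat.card_pos h3
    exact Nat.pow_right_injective (le_refl 2 |>.trans (by norm_num)) h4
  subst hmk
  have hcomm : ∀ {x y : Y}, x ∈ R → y ∈ R → bf N x y = 0 → Commute (N x) (N y) := by
    intro x y hx hy h0
    have := hN.bf_spec hE hx hy
    rw [h0, sg_zero, one_smul] at this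
    exact this
  refine halving h2 m (fun i => N (x i)) (fun i => N (y i)) (fun i => hN.sq _ (hx i)) (fun i => hN.sq _ (hy i))
    (fun i => ?_) (fun i j hij => hcomm (hx i) (hx j) (hxx i j hij)) (fun i j hij => hcomm (hx i) (hy j) (hxy' i j hij))
    (fun i j hij => hcomm (hy i) (hy j) (hyy i j hij))
  have := hN.bf_spec hE (hx i) (hy i)
  rw [hxy i, sg_one, neg_smul, one_smul] at this
  exact this

end Cfsg.Agent.H918.Min
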