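import Cfsg.Agent.H918.Halve

/-!
# Minimal degree of projective representations of the normaliser of a symplectic type 2-group

Part 1: the square-one lifts `N x` of the elements of `R`, and the commutation form.
-/

set_option autoImplicit false
set_option linter.unusedSectionVars false

namespace Cfsg.Agent.H918.Min

open Module

universe u v w

/-- `R` is a normal subgroup of `Y` with a central subgroup `Z` such that `R / Z` is elementary abelian. -/
structure Ext {Y : Type w} [Group Y] (R Z : Subgroup Y) : Prop where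
  normal : ∀ g, ∀ x ∈ R, g * x * g⁻¹ ∈ R
  le : Z ≤ R
  central : ∀ z ∈ Z, ∀ g, z * g = g * z
  sq : ∀ x ∈ R, x * x ∈ Z
  comm : ∀ x ∈ R, ∀ y ∈ R, x * y * x⁻¹ * y⁻¹ ∈ Z

variable {Y : Type w} [Group Y] {R Z : Subgroup Y} {K : Type u} [Field K] {V : Type v} [AddCommGroup V] [Module K V]

/-- The lifts. -/
structure Lift (R Z : Subgroup Y) (M : Y → (End K V)ˣ) (N : Y → End K V) : Prop where
  sq : ∀ x ∈ R, N x * N x = 1
  mul : ∀ x ∈ R, ∀ y ∈ R, ∃ c : K, N (x * y) = c • (N x * N y)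
  conj : ∀ g, ∀ x ∈ R, ∃ c : K, N (g * x * g⁻¹) * (M g : End K V) = c • ((M g : End K V) * N x)
  scal : ∀ z ∈ Z, ∃ c : K, N z = c • (1 : End K V)
  prop : ∀ x ∈ R, ∃ c : K, c ≠ 0 ∧ N x = c • (M x : End K V)

theorem smul_one_ne [Nontrivial V] {c : K} {A : (End K V)ˣ} (h : (A : End K V) = c • (1 : End K V)) : c ≠ 0 := by
  rintro rfl
  rw [zero_smul] at h
  have h1 : ((A⁻¹ : (End K V)ˣ) : End K V) * (A : End K V) = 1 := A.inv_mul
  rw [h, mul_zero] at h1
  exact zero_ne_one h1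

theorem exists_lift [Nontrivial V] [IsAlgClosed K] (hE : Ext R Z) (M : Y → (End K V)ˣ)
    (hM : ∀ x y, ∃ c : K, (M (x * y) : End K V) = c • ((M x : End K V) * (M y : End K V)))
    (hZ : ∀ z ∈ Z, ∃ c : K, (M z : End K V) = c • (1 : End K V)) : ∃ N, Lift R Z M N := by
  classical
  -- nonzero constants
  have hM' : ∀ x y, ∃ c : K, c ≠ 0 ∧ (M (x * y) : End K V) = c • ((M x : End K V) * (M y : End K V)) := by
    intro x y
    obtain ⟨c, hc⟩ := hM x y
    refine ⟨c, ?_, hc⟩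
    rintro rfl
    rw [zero_smul] at hc
    have h1 : (((M (x * y))⁻¹ : (End K V)ˣ) : End K V) * (M (x * y) : End K V) = 1 := (M (x * y)).inv_mul
    rw [hc, mul_zero] at h1
    exact zero_ne_one h1
  have key : ∀ x : Y, x ∈ R → ∃ c : K, c ≠ 0 ∧ (c • (M x : End K V)) * (c • (M x : End K V)) = 1 := by
    intro x hx
    obtain ⟨c, hc0, hc⟩ := hM' x x
    obtain ⟨d, hd⟩ := hZ _ (hE.sq x hx)
    have hd0 : d ≠ 0 := smul_one_ne hd
    have h1 : (M x : End K V) * (M x : End K V) = (c⁻¹ * d) • (1 : End K V) := by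
      rw [mul_smul, ← hd, hc, smul_smul, inv_mul_cancel₀ hc0, one_smul]
    obtain ⟨e, he⟩ := IsAlgClosed.exists_eq_mul_self ((c⁻¹ * d)⁻¹)
    have he0 : e ≠ 0 := by
      rintro rfl
      rw [mul_zero] at he
      exact inv_ne_zero (mul_ne_zero (inv_ne_zero hc0) hd0) he
    refine ⟨e, he0, ?_⟩
    rw [smul_mul_smul_comm, ← he, h1, smul_smul,
      inv_mul_cancel₀ (mul_ne_zero (inv_ne_zero hc0) hd0), one_smul]
  choose! c hc0 hc using key
  -- conjugation for `M`
  have hconj : ∀ g x, ∃ d : K, (M (g * x * g⁻¹) : End K V) * (M g : End K V) = d • ((M g : End K V) * (M x : End K V)) := by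
    intro g x
    obtain ⟨c1, h10, h1⟩ := hM' (g * x * g⁻¹) g
    obtain ⟨c2, h20, h2⟩ := hM' g x
    have h3 : g * x * g⁻¹ * g = g * x := by group
    rw [h3, h2] at h1
    refine ⟨c1⁻¹ * c2, ?_⟩
    rw [mul_smul, h1, smul_smul, inv_mul_cancel₀ h10, one_smul]
  refine ⟨fun x => c x • (M x : End K V), fun x hx => hc x hx, fun x hx y hy => ?_, fun g x hx => ?_, fun z hz => ?_,
    fun x hx => ⟨c x, hc0 x hx, rfl⟩⟩
  · obtain ⟨d, hd⟩ := hM x y
    refine ⟨c (x * y) * d * (c x)⁻¹ * (c y)⁻¹, ?_⟩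
    rw [hd, smul_mul_smul_comm, smul_smul, smul_smul]
    congr 1
    have := hc0 x hx
    have := hc0 y hy
    field_simp
  · obtain ⟨d, hd⟩ := hconj g x
    refine ⟨c (g * x * g⁻¹) * d * (c x)⁻¹, ?_⟩
    rw [smul_mul_assoc, hd, mul_smul_comm, smul_smul, smul_smul]
    congr 1
    have := hc0 x hx
    field_simp
  · obtain ⟨d, hd⟩ := hZ z hz
    refine ⟨c z * d, ?_⟩
    rw [hd, smul_smul]

section Form

variable [Nontrivial V] {M : Y → (End K V)ˣ} {N : Y → End K V}

theorem Lift.ne_zero (hN : Lift R Z M N) {x : Y} (hx : x ∈ R) : N x ≠ 0 := by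
  intro h
  have := hN.sq x hx
  rw [h, mul_zero] at this
  exact zero_ne_one this

theorem Lift.mul_ne_zero (hN : Lift R Z M N) {x y : Y} (hx : x ∈ R) (hy : y ∈ R) : N x * N y ≠ 0 := by
  intro h
  have h1 : N x * (N x * N y) = N y := by rw [← mul_assoc, hN.sq x hx, one_mul]
  rw [h, mul_zero] at h1
  exact hN.ne_zero hy h1.symm

/-- The lifts commute or anticommute. -/
theorem Lift.comm_or (hE : Ext R Z) (hN : Lift R Z M N) {x y : Y} (hx : x ∈ R) (hy : y ∈ R) :
    N x * N y = N y * N x ∨ N x * N y = - (N y * N x) := by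
  obtain ⟨c1, h1⟩ := hN.mul x hx y hy
  obtain ⟨c2, h2⟩ := hN.mul _ (hE.le (hE.comm x hx y hy)) (y * x) (R.mul_mem hy hx)
  obtain ⟨c3, h3⟩ := hN.scal _ (hE.comm x hx y hy)
  obtain ⟨c4, h4⟩ := hN.mul y hy x hx
  have e1 : x * y * x⁻¹ * y⁻¹ * (y * x) = x * y := by group
  rw [e1, h3, h4, smul_one_mul, h1] at h2
  have hc1 : c1 ≠ 0 := by
    rintro rfl
    rw [zero_smul] at h1
    exact hN.ne_zero (R.mul_mem hx hy) h1
  have h5 : N x * N y = (c1⁻¹ * (c2 * (c3 * c4))) • (N y * N x) := by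
    rw [mul_smul, mul_smul, mul_smul, ← h2, smul_smul, inv_mul_cancel₀ hc1, one_smul]
  set t := c1⁻¹ * (c2 * (c3 * c4)) with ht
  have h6 : N x * N y * N x = t • N y := by
    rw [h5, smul_mul_assoc, mul_assoc, hN.sq x hx, mul_one]
  have h7 : (N x * N y * N x) * (N x * N y * N x) = 1 := by
    have : (N x * N y * N x) * (N x * N y * N x) = N x * (N y * (N x * N x) * N y) * N x := by noncomm_ring
    rw [this, hN.sq x hx, mul_one, hN.sq y hy, mul_one, hN.sq x hx]
  rw [h6, smul_mul_smul_comm, hN.sq y hy] at h7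
  have h8 : t * t = 1 := by
    by_contra hne
    have h9 : (t * t - 1) • (1 : End K V) = 0 := by rw [sub_smul, h7, one_smul, sub_self]
    rcases smul_eq_zero.1 h9 with h10 | h10
    · exact hne (sub_eq_zero.1 h10)
    · exact one_ne_zero h10
  rcases mul_self_eq_one_iff.1 h8 with h9 | h9
  · left; rw [h5, h9, one_smul]
  · right; rw [h5, h9, neg_smul, one_smul]

/-- sign of an element of `ZMod 2`. -/
def sg (K : Type u) [Field K] (a : ZMod 2) : K := if a = 0 then 1 else -1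

theorem zmod_two (a : ZMod 2) : a = 0 ∨ a = 1 := by
  revert a; decide

theorem sg_zero : sg K 0 = 1 := by rw [sg, if_pos rfl]

theorem sg_one : sg K 1 = -1 := by rw [sg, if_neg (by decide)]

theorem sg_add (a b : ZMod 2) : sg K (a + b) = sg K a * sg K b := by
  have h11 : (1 : ZMod 2) + 1 = 0 := by decide
  rcases zmod_two a with rfl | rfl <;> rcases zmod_two b with rfl | rfl
  · rw [add_zero, sg_zero, one_mul]
  · rw [zero_add, sg_zero, one_mul]
  · rw [add_zero, sg_zero, mul_one]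
  · rw [h11, sg_zero, sg_one, neg_mul_neg, one_mul]

theorem sg_injective (h2 : (2 : K) ≠ 0) {a b : ZMod 2} (h : sg K a = sg K b) : a = b := by
  have h3 : (1 : K) ≠ -1 := by
    intro h4
    apply h2
    rw [← one_add_one_eq_two]
    nth_rewrite 1 [h4]
    exact neg_add_cancel 1
  rcases zmod_two a with rfl | rfl <;> rcases zmod_two b with rfl | rfl
  · rfl
  · rw [sg_zero, sg_one] at h
    exact absurd h h3
  · rw [sg_zero, sg_one] at h
    exact absurd h.symm h3
  · rfl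

open Classical in
/-- the commutation form -/
noncomputable def bf (N : Y → End K V) (x y : Y) : ZMod 2 := if N x * N y = N y * N x then 0 else 1

theorem Lift.bf_spec (hE : Ext R Z) (hN : Lift R Z M N) {x y : Y} (hx : x ∈ R) (hy : y ∈ R) :
    N x * N y = sg K (bf N x y) • (N y * N x) := by
  unfold bf sg
  by_cases h : N x * N y = N y * N x
  · simp [h]
  · rcases hN.comm_or hE hx hy with h1 | h1
    · exact absurd h1 h
    · rw [if_neg h, if_neg (by decide), neg_smul, one_smul]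
      exact h1

theorem Lift.bf_unique (h2 : (2 : K) ≠ 0) (hE : Ext R Z) (hN : Lift R Z M N) {x y : Y} (hx : x ∈ R) (hy : y ∈ R)
    {a : ZMod 2} (h : N x * N y = sg K a • (N y * N x)) : bf N x y = a := by
  have h1 := hN.bf_spec hE hx hy
  rw [h] at h1
  have h3 : (sg K a - sg K (bf N x y)) • (N y * N x) = 0 := by rw [sub_smul, h1, sub_self]
  rcases smul_eq_zero.1 h3 with h4 | h4
  · exact (sg_injective h2 (sub_eq_zero.1 h4)).symm
  · exact absurd h4 (hN.mul_ne_zero hy hx)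

theorem Lift.bf_mul (h2 : (2 : K) ≠ 0) (hE : Ext R Z) (hN : Lift R Z M N) {x y w : Y} (hx : x ∈ R) (hy : y ∈ R)
    (hw : w ∈ R) : bf N (x * y) w = bf N x w + bf N y w := by
  apply hN.bf_unique h2 hE (R.mul_mem hx hy) hw
  obtain ⟨c, hc⟩ := hN.mul x hx y hy
  rw [hc, smul_mul_assoc, mul_smul_comm, mul_assoc, hN.bf_spec hE hy hw, mul_smul_comm, ← mul_assoc,
    hN.bf_spec hE hx hw, smul_mul_assoc, mul_assoc, sg_add, smul_smul, smul_smul, smul_smul]
  congr 1
  ring

theorem bf_symm (N : Y → End K V) (x y : Y) : bf N x y = bf N y x := by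
  unfold bf
  by_cases h : N x * N y = N y * N x
  · rw [if_pos h, if_pos h.symm]
  · rw [if_neg h, if_neg (fun h' => h h'.symm)]

theorem bf_self (N : Y → End K V) (x : Y) : bf N x x = 0 := by
  unfold bf
  rw [if_pos rfl]

theorem Lift.bf_center (hN : Lift R Z M N) {z : Y} (hz : z ∈ Z) (y : Y) : bf N z y = 0 := by
  obtain ⟨c, hc⟩ := hN.scal z hz
  unfold bf
  rw [if_pos]
  rw [hc, smul_one_mul, mul_smul_one]

theorem Lift.conj_eq (hN : Lift R Z M N) {g x : Y} (hx : x ∈ R) : ∃ c : K, N (g * x * g⁻¹) =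
    c • ((M g : End K V) * N x * ((M g)⁻¹ : (End K V)ˣ)) := by
  obtain ⟨c, hc⟩ := hN.conj g x hx
  refine ⟨c, ?_⟩
  rw [← smul_mul_assoc, ← hc]
  exact (Units.mul_inv_cancel_right _ (M g)).symm

theorem Lift.bf_conj (h2 : (2 : K) ≠ 0) (hE : Ext R Z) (hN : Lift R Z M N) {g x y : Y} (hx : x ∈ R) (hy : y ∈ R) :
    bf N (g * x * g⁻¹) (g * y * g⁻¹) = bf N x y := by
  apply hN.bf_unique h2 hE (hE.normal g x hx) (hE.normal g y hy)
  obtain ⟨c, hc⟩ := hN.conj_eq (g := g) hx
  obtain ⟨d, hd⟩ := hN.conj_eq (g := g) hy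
  have key : ∀ A B : End K V, ((M g : End K V) * A * ((M g)⁻¹ : (End K V)ˣ)) * ((M g : End K V) * B *
      ((M g)⁻¹ : (End K V)ˣ)) = (M g : End K V) * (A * B) * ((M g)⁻¹ : (End K V)ˣ) := by
    intro A B
    have : ((M g : End K V) * A * ((M g)⁻¹ : (End K V)ˣ)) * ((M g : End K V) * B *
      ((M g)⁻¹ : (End K V)ˣ)) = (M g : End K V) * A * ((((M g)⁻¹ : (End K V)ˣ) : End K V) * (M g : End K V)) * B *
      ((M g)⁻¹ : (End K V)ˣ) := by noncomm_ring
    rw [this, (M g).inv_mul, mul_one, mul_assoc (M g : End K V) A B]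
  rw [hc, hd, smul_mul_smul_comm, smul_mul_smul_comm, key, key, hN.bf_spec hE hx hy, mul_smul_comm, smul_mul_assoc,
    smul_smul, smul_smul]
  congr 1
  ring

end Form

end Cfsg.Agent.H918.Min
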