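import Cfsg.Agent.H918.MinPairs

/-!
# Weights of commuting lifts

If all lifts `N x`, `x ∈ R`, commute and the group `Y` is transitive on `R / Z` minus 1, there are at least
`4 ^ k - 1` unordered pairs of weights.
-/

set_option autoImplicit false
set_option linter.unusedSectionVars false

namespace Cfsg.Agent.H918.Min

open Module

universe u v w

section Common

variable {K : Type u} [Field K] {V : Type v} [AddCommGroup V] [Module K V] [FiniteDimensional K V] {ι : Type w}

/-- Commuting involutions have a common eigenvector in every invariant subspace. -/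
theorem exists_common (f : ι → End K V) (hsq : ∀ i, f i * f i = 1) (hcomm : ∀ i j, Commute (f i) (f j)) :
    ∀ (n : ℕ) (W : Submodule K V), finrank K W = n → W ≠ ⊥ → (∀ i, ∀ v ∈ W, f i v ∈ W) →
    ∃ v ∈ W, v ≠ 0 ∧ ∃ w : ι → K, ∀ i, f i v = w i • v := by
  classical
  have hff : ∀ i v, f i (f i v) = v := fun i v => by rw [← Module.End.mul_apply, hsq, Module.End.one_apply]
  intro n
  induction n using Nat.strong_induction_on with
  | _ n ih =>
    intro W hn hW hinv
    by_cases h : ∀ i, (∀ v ∈ W, f i v = v) ∨ (∀ v ∈ W, f i v = - v)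
    · obtain ⟨v, hv, hv0⟩ := Submodule.exists_mem_ne_zero_of_ne_bot hW
      refine ⟨v, hv, hv0, fun i => if f i v = v then 1 else -1, fun i => ?_⟩
      by_cases h1 : f i v = v
      · simp only [h1, if_true, one_smul]
      · rcases h i with h2 | h2
        · exact absurd (h2 v hv) h1
        · simp only [if_neg h1, neg_smul, one_smul]
          exact h2 v hv
    · push Not at h
      obtain ⟨i, ⟨v1, hv1, hv1'⟩, ⟨v2, hv2, hv2'⟩⟩ := h
      set W' := W ⊓ fixSp (f i) with hW'
      have hlt : W' < W := by
        refine lt_of_le_of_ne inf_le_left fun h3 => hv1' ?_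
        have : v1 ∈ W' := by rw [h3]; exact hv1
        exact mem_fixSp.1 this.2
      have hne : W' ≠ ⊥ := by
        intro h3
        apply hv2'
        have h4 : v2 + f i v2 ∈ W' := by
          refine ⟨W.add_mem hv2 (hinv i v2 hv2), mem_fixSp.2 ?_⟩
          rw [map_add, hff, add_comm]
        rw [h3, Submodule.mem_bot] at h4
        exact (neg_eq_of_add_eq_zero_right h4).symm
      obtain ⟨v, hv, hv0, w, hw⟩ := ih (finrank K W') (by rw [← hn]; exact Submodule.finrank_lt_finrank_of_lt hlt)
        W' rfl hne (fun j v hv => ⟨hinv j v hv.1, mapsTo_fixSp (hcomm i j) v hv.2⟩)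
      exact ⟨v, hv.1, hv0, w, hw⟩

/-- The joint eigenspace. -/
def joint (f : ι → End K V) (w : ι → K) : Submodule K V := ⨅ i, (f i).eigenspace (w i)

theorem mem_joint {f : ι → End K V} {w : ι → K} {v : V} : v ∈ joint f w ↔ ∀ i, f i v = w i • v := by
  simp only [joint, Submodule.mem_iInf, Module.End.mem_eigenspace_iff]

theorem iSupIndep_joint (f : ι → End K V) (hcomm : ∀ i j, Commute (f i) (f j)) : iSupIndep (joint f) := by
  have h := Module.End.independent_iInf_maxGenEigenspace_of_forall_mapsTo f
    (fun i j φ => Module.End.mapsTo_maxGenEigenspace_of_comm (hcomm j i) φ)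
  refine h.mono fun w => ?_
  refine le_iInf fun i => (iInf_le _ i).trans ?_
  exact Module.End.genEigenspace_le_maximal _ _ 1

/-- The finite set of weights. -/
abbrev Wt (f : ι → End K V) := {w : ι → K // joint f w ≠ ⊥}

theorem finite_Wt (f : ι → End K V) (hcomm : ∀ i j, Commute (f i) (f j)) : Finite (Wt f) := by
  have := (iSupIndep_joint f hcomm).fintypeNeBotOfFiniteDimensional
  exact Finite.of_fintype _

theorem card_Wt_le (f : ι → End K V) (hcomm : ∀ i j, Commute (f i) (f j)) : Nat.card (Wt f) ≤ finrank K V := by
  have := (iSupIndep_joint f hcomm).fintypeNeBotOfFiniteDimensional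
  rw [Nat.card_eq_fintype_card]
  exact (iSupIndep_joint f hcomm).subtype_ne_bot_le_finrank

end Common

end Cfsg.Agent.H918.Min
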